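/-
Orders, centres and automorphism groups of five simple groups (S0813, S2066, S2119, the order formulas).
-/
import Cfsg.Prelude.Def_Spor_J2
import Cfsg.Agent.S0813
import Cfsg.Agent.S0242
import Cfsg.Agent.S0243
import Cfsg.Agent.S0265
import Cfsg.Agent.S2066
import Cfsg.Agent.S2119
import Cfsg.Agent.CLAS.SLBasic
import Cfsg.Agent.KSG.KOutAbs

set_option autoImplicit false

namespace CL.E72

/-- trivial centre, the order of the group and of its automorphism group -/
def AutDat (X : Type*) [Group X] (n m : ℕ) : Prop :=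
  Subgroup.center X = ⊥ ∧ Nat.card X = n ∧ Nat.card (MulAut X) = m

theorem AutDat.of_equiv {X Y : Type*} [Group X] [Group Y] {n m : ℕ} (h : AutDat Y n m) (e : X ≃* Y) : AutDat X n m := by
  refine ⟨eq_bot_iff.2 fun x hx => ?_, (Nat.card_congr e.toEquiv).trans h.2.1,
    (Nat.card_congr (MulAut.congr e).toEquiv).trans h.2.2⟩
  have : e x ∈ Subgroup.center Y := Subgroup.mem_center_iff.2 fun y => by
    rw [← e.apply_symm_apply y, ← map_mul, ← map_mul, Subgroup.mem_center_iff.1 hx]
  rw [h.1, Subgroup.mem_bot] at this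
  exact Subgroup.mem_bot.2 (e.injective (this.trans (map_one e).symm))

theorem center_of_simple {X : Type*} [Group X] [IsSimpleGroup X] {n : ℕ} (h : Nat.card X = n) (h0 : n ≠ 0)
    (hn : ¬ n.Prime) : Subgroup.center X = ⊥ :=
  ((inferInstance : (Subgroup.center X).Normal).eq_bot_or_eq_top).resolve_right fun e => by
    have : Finite X := Nat.finite_of_card_ne_zero (h ▸ h0)
    letI : CommGroup X := { (inferInstance : Group X) with
      mul_comm := fun a b => Subgroup.mem_center_iff.1 (e ▸ Subgroup.mem_top b) a }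
    exact hn (h ▸ IsSimpleGroup.prime_card)

theorem simple_L2 {F : Type*} [Field F] [Fintype F] (h : 4 ≤ Fintype.card F) :
    IsSimpleGroup (Matrix.ProjectiveSpecialLinearGroup (Fin 2) F) := by
  obtain ⟨a, ha, ha'⟩ := CL.SL.exists_sq_ne_one_of_four_le_card (F := F) (by rwa [Nat.card_eq_fintype_card])
  exact CL.SL.psl_isSimpleGroup_of_perfect (CL.SL.commutator_eq_top_of_sq_ne_one ha ha')

theorem aut_L219 {F : Type*} [Field F] [Fintype F] (h : Fintype.card F = 19) :
    AutDat (Matrix.ProjectiveSpecialLinearGroup (Fin 2) F) 3420 6840 := by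
  have : Fact (Nat.Prime 19) := ⟨by norm_num⟩
  have := simple_L2 (F := F) (by omega)
  have h1 := Cfsg.Agent.S0243.result h 2 le_rfl
  have h2 := Cfsg.Agent.S0242.result h 2 one_le_two
  have h3 := Cfsg.Agent.S0813.result (F := F) 19 1 le_rfl h 2 le_rfl (by norm_num)
  rw [Cfsg.Agent.S0265.result] at h3
  norm_num [Fin.prod_univ_succ] at h1 h2 h3
  exact ⟨center_of_simple (n := 3420) (by omega) (by norm_num) (by norm_num), by omega, by omega⟩

theorem aut_L227 {F : Type*} [Field F] [Fintype F] (h : Fintype.card F = 27) :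
    AutDat (Matrix.ProjectiveSpecialLinearGroup (Fin 2) F) 9828 58968 := by
  have := simple_L2 (F := F) (by omega)
  have h1 := Cfsg.Agent.S0243.result h 2 le_rfl
  have h2 := Cfsg.Agent.S0242.result h 2 one_le_two
  have h3 := Cfsg.Agent.S0813.result (F := F) 3 3 (by norm_num) h 2 le_rfl (by norm_num)
  rw [Cfsg.Agent.S0265.result] at h3
  norm_num [Fin.prod_univ_succ] at h1 h2 h3
  exact ⟨center_of_simple (n := 9828) (by omega) (by norm_num) (by norm_num), by omega, by omega⟩

theorem aut_L43' {F : Type*} [Field F] [Fintype F] (h : Fintype.card F = 3) :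
    AutDat (Matrix.ProjectiveSpecialLinearGroup (Fin 4) F) 6065280 24261120 := by
  have := CL.SL.psl_isSimpleGroup_of_three_le (ι := Fin 4) (F := F) (by simp)
  have h1 := Cfsg.Agent.S0243.result h 4 (by norm_num)
  have h2 := Cfsg.Agent.S0242.result h 4 (by norm_num)
  have h3 := Cfsg.Agent.S0813.result (F := F) 3 1 le_rfl h 4 (by norm_num) (by norm_num)
  rw [Cfsg.Agent.S0265.result] at h3
  norm_num [Fin.prod_univ_succ] at h1 h2 h3
  exact ⟨center_of_simple (n := 6065280) (by omega) (by norm_num) (by norm_num), by omega, by omega⟩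

theorem aut_L43 : AutDat (Matrix.ProjectiveSpecialLinearGroup (Fin 4) (ZMod 3)) 6065280 24261120 := by
  exact aut_L43' (ZMod.card 3)

theorem aut_A13 : AutDat (alternatingGroup (Fin 13)) 3113510400 6227020800 := by
  refine ⟨alternatingGroup.center_eq_bot (by simp), ?_, ?_⟩
  · rw [nat_card_alternatingGroup]
    simp [Nat.factorial]
  · rw [← Nat.card_eq_of_bijective _ (Cfsg.Agent.S2119.result 13 (by norm_num) (by norm_num)), Nat.card_perm]
    simp [Nat.factorial]

theorem aut_J2 : AutDat Cfsg.Spor.J2 604800 1209600 := by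
  have := CL.J2.isSimpleGroup_J2
  have h := center_of_simple CL.J2.card_J2 (by norm_num) (by norm_num)
  exact ⟨h, CL.J2.card_J2, by rw [CL.KOut.card_aut h, Cfsg.Agent.S2066.result, CL.J2.card_J2]⟩

end CL.E72
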