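/-
Coded groups: certificates for the dimensions of fixed spaces of 3-groups.
-/
import Cfsg.Agent.KSG.E72.Lin
import Cfsg.Agent.KSG.E83.Mat

set_option autoImplicit false

namespace CL.E72
open Module Function Finset Module.End CL.E83 CL.AltE

variable {V : Type*} [AddCommGroup V] [Module F2 V]

/-- the value of a word -/
def ev (m : ℕ → ℕ → ℕ) (o : ℕ) (L w : List ℕ) : ℕ := w.foldr (fun i a => m (L.getD i o) a) o

/-- the check of a central series -/
def cen3 (m : ℕ → ℕ → ℕ) : List ℕ → List ℕ → Bool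
  | _, [] => true
  | t, g :: l => forceN (m g (m g g)) (fun a => t.any (Nat.beq a)) &&
    l.all (fun h => forceN (m h g) fun a => forceN (m g h) fun b => t.any fun n => Nat.beq (m b n) a) &&
    cen3 m (prods3 m t [g]) l

/-- the check of the class of an element -/
def cls3 (m : ℕ → ℕ → ℕ) (o : ℕ) (L R : List ℕ) (a : ℕ) (c : ℕ × List ℕ) : Bool :=
  forceN (ev m o L c.2) fun x => forceN (m x a) fun y =>
    Nat.beq y (m (R.getD c.1 o) x) || Nat.beq (m (R.getD c.1 o) y) x

/-- the check of the classes of a list of elements -/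
def allc (m : ℕ → ℕ → ℕ) (o : ℕ) (L R : List ℕ) : List ℕ → List (ℕ × List ℕ) → Bool
  | [], [] => true
  | [], _ :: _ => false
  | _ :: _, [] => false
  | a :: p, c :: d => cls3 m o L R a c && allc m o L R p d

/-- the check of a 3-subgroup -/
def con3 (m : ℕ → ℕ → ℕ) (o : ℕ) (L R l : List ℕ) (d : List (ℕ × List ℕ)) (f : List ℕ) : Bool :=
  cen3 m [o] l && allc m o L R (prods3 m [o] l) d && d.all (fun c => Nat.blt c.1 f.length) &&
    (List.range f.length).map (fun j => (d.map Prod.fst).count j) == f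

/-- the check that codes are values of words -/
def wds (m : ℕ → ℕ → ℕ) (o : ℕ) (L : List ℕ) (W : List (ℕ × List ℕ)) : Bool := W.all fun x => Nat.beq (ev m o L x.2) x.1

variable {G : Type*} [Group G] {C : Cod G} {m : ℕ → ℕ → ℕ} (hm : C.mul = m) {o : ℕ} (ho : C.In o) (h1 : C.el o = 1)
  {L : List ℕ} (hL : ∀ a ∈ L, C.In a)

theorem getD_ind {P : ℕ → Prop} (ho : P o) (hL : ∀ a ∈ L, P a) (i : ℕ) : P (L.getD i o) := by
  by_cases h : i < L.length
  · rw [List.getD_eq_getElem _ _ h]; exact hL _ (List.getElem_mem h)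
  · rwa [List.getD_eq_default _ _ (not_lt.1 h)]

include hm ho hL in
theorem in_ev (w : List ℕ) : C.In (ev m o L w) := by
  induction w with
  | nil => exact ho
  | cons i w ih => exact hm ▸ C.in_mul _ _ (getD_ind ho hL i) (hm ▸ ih)

include hm ho hL in
theorem wds_spec {W : List (ℕ × List ℕ)} (h : wds m o L W = true) : ∀ a ∈ W.map Prod.fst, C.In a := by
  simp only [wds, List.all_eq_true, Nat.beq_eq] at h
  simp only [List.mem_map]
  rintro _ ⟨x, hx, rfl⟩
  exact h x hx ▸ in_ev hm ho hL _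

include hm ho h1 hL in
theorem wds_mem {K : Subgroup G} (hK : ∀ a ∈ L, C.el a ∈ K) {W : List (ℕ × List ℕ)} (h : wds m o L W = true) :
    ∀ a ∈ W.map Prod.fst, C.el a ∈ K := by
  simp only [wds, List.all_eq_true, Nat.beq_eq] at h
  simp only [List.mem_map]
  rintro _ ⟨x, hx, rfl⟩
  rw [← h x hx]
  generalize x.2 = w
  induction w with
  | nil => exact (h1 ▸ one_mem K :)
  | cons i w ih =>
    subst hm
    exact C.el_mul _ _ (getD_ind ho hL i) (in_ev rfl ho hL w) ▸
      mul_mem (getD_ind (P := fun a => C.el a ∈ K) (h1 ▸ one_mem K) hK i) ih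

variable (ρ : G →* End F2 V)

theorem fx_inv (g : G) : (ρ g⁻¹).eigenspace 1 = (ρ g).eigenspace 1 := by
  have : ∀ g : G, (ρ g).eigenspace 1 ≤ (ρ g⁻¹).eigenspace 1 := fun g v hv => mem_fx.2 (rep_injective ρ g (by
    rw [← mul_apply, ← map_mul, mul_inv_cancel, map_one, one_apply, mem_fx.1 hv]))
  exact le_antisymm (by simpa using this g⁻¹) (this g)

theorem T_inv (W : Submodule F2 V) (g : G) : T W (ρ g⁻¹) = T W (ρ g) := by
  rw [T, T, ← map_pow, ← map_pow, inv_pow, fx_inv, fx_inv]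

variable [FiniteDimensional F2 V]

theorem dm_conj {g g' : G} (h : IsConj g g') : dm ((ρ g).eigenspace 1) = dm ((ρ g').eigenspace 1) := finrank_conj ρ h 1

theorem T_conj {g g' : G} (h : IsConj g g') : T ⊤ (ρ g) = T ⊤ (ρ g') := by
  simp only [T, top_inf_eq, ← map_pow, dm_conj ρ h, dm_conj ρ (h.pow 3)]

include hm in
omit [FiniteDimensional F2 V] in
theorem cen3_spec {W : Submodule F2 V} {t l : List ℕ} (ht : ∀ n ∈ t, C.In n ∧ ∀ w ∈ W, ρ (C.el n) w = w)
    (hl : ∀ g ∈ l, C.In g) (h : cen3 m t l = true) : Cen3 W (l.map fun a => ρ (C.el a)) := by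
  subst hm
  induction l generalizing W t with
  | nil => trivial
  | cons g l ih =>
    obtain ⟨hg, hl⟩ := List.forall_mem_cons.1 hl
    simp only [cen3, forceN_eq, Bool.and_eq_true, List.all_eq_true, List.any_eq_true, Nat.beq_eq] at h
    obtain ⟨⟨⟨n, hn, e⟩, h2⟩, h3⟩ := h
    refine ⟨fun w hw => ?_, ?_, ih (prods3_ind (fun n hn => ⟨(ht n hn).1, fun w hw => (ht n hn).2 w hw.1⟩) ?_) hl h3⟩
    · rw [← mul_apply, ← mul_apply, ← map_mul, ← map_mul, mul_assoc, ← C.el_mul _ _ hg hg,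
        ← C.el_mul _ _ hg (C.in_mul _ _ hg hg), e, (ht n hn).2 w hw]
    · simp only [List.mem_map]
      rintro _ ⟨k, hk, rfl⟩ w hw
      obtain ⟨n, hn, e⟩ := h2 k hk
      rw [← mul_apply, ← mul_apply, ← map_mul, ← map_mul, ← C.el_mul _ _ hg (hl k hk), ← C.el_mul _ _ (hl k hk) hg, ← e,
        C.el_mul _ _ (C.in_mul _ _ hg (hl k hk)) (ht n hn).1, map_mul, mul_apply, (ht n hn).2 w hw]
    · simp only [List.mem_singleton]
      rintro _ rfl a ha
      exact ⟨C.in_mul _ _ hg ha.1, fun w hw => by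
        rw [C.el_mul _ _ hg ha.1, map_mul, mul_apply, ha.2 w hw, mem_fx.1 hw.2]⟩

include hm ho h1 in
omit [FiniteDimensional F2 V] in
theorem map_prods3 {l : List ℕ} (hl : ∀ g ∈ l, C.In g) :
    (prods3 m [o] l).map (fun a => ρ (C.el a)) = prods3 (· * ·) [1] (l.map fun a => ρ (C.el a)) := by
  subst hm
  induction l with
  | nil => simp [prods3, h1]
  | cons g l ih =>
    obtain ⟨hg, hl⟩ := List.forall_mem_cons.1 hl
    have := prods3_ind (m := C.mul) (P := [o]) (Q := C.In) (by simpa) fun g hg a ha => C.in_mul _ _ (hl g hg) ha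
    simp only [prods3, List.map_append, List.map_cons, List.map_map, ← ih hl]
    congr 2 <;> refine List.map_congr_left fun a ha => ?_ <;>
      simp [C.el_mul _ _ hg (this a ha), C.el_mul _ _ hg (C.in_mul _ _ hg (this a ha))]

include hm ho h1 in
theorem cen3_sum {l : List ℕ} (hl : ∀ g ∈ l, C.In g) (h : cen3 m [o] l = true) :
    ((prods3 m [o] l).map fun a => T ⊤ (ρ (C.el a))).sum =
      2 * 3 ^ l.length * (dm (fixL ⊤ (l.map fun a => ρ (C.el a))) : ℤ) := by
  have := sign3 _ ⊤ (fun _ _ _ _ => trivial) (cen3_spec hm ρ (by simp [ho, h1]) hl h)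
  rwa [← map_prods3 hm ho h1 ρ hl, List.map_map, List.length_map] at this

theorem sum_count (t : ℕ → ℤ) {n : ℕ} (d : List ℕ) (h : ∀ c ∈ d, c < n) :
    (d.map t).sum = ∑ j ∈ range n, d.count j * t j := by
  rw [Finset.sum_list_map_count, sum_subset (fun j hj => mem_range.2 (h j (List.mem_toFinset.1 hj))) fun j _ hj => by
    rw [List.count_eq_zero_of_not_mem (mt List.mem_toFinset.2 hj), zero_smul]]
  simp

include hm ho hL in
theorem cls3_spec {R : List ℕ} (hR : ∀ a ∈ R, C.In a) {a : ℕ} (ha : C.In a) {c : ℕ × List ℕ}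
    (h : cls3 m o L R a c = true) : T ⊤ (ρ (C.el a)) = T ⊤ (ρ (C.el (R.getD c.1 o))) := by
  simp only [cls3, forceN_eq, Bool.or_eq_true, Nat.beq_eq] at h
  have a1 := in_ev hm ho hL c.2
  have a2 := getD_ind ho hR c.1
  generalize ev m o L c.2 = x at h a1
  generalize R.getD c.1 o = r at h a2 ⊢
  subst hm
  rcases h with h | h <;> replace h := congrArg C.el h
  · rw [C.el_mul _ _ a1 ha, C.el_mul _ _ a2 a1] at h
    exact T_conj ρ (isConj_iff.2 ⟨_, mul_inv_eq_iff_eq_mul.2 h⟩)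
  · rw [C.el_mul _ _ a2 (C.in_mul _ _ a1 ha), C.el_mul _ _ a1 ha] at h
    exact (T_conj ρ (isConj_iff.2 ⟨_, mul_inv_eq_iff_eq_mul.2 (eq_inv_mul_iff_mul_eq.2 h)⟩)).trans (T_inv ρ _ _)

theorem allc_spec {R : List ℕ} {P : ℕ → Prop} {t t' : ℕ → ℤ} (h : ∀ a, P a → ∀ c, cls3 m o L R a c = true → t a = t' c.1)
    (p : List ℕ) (d : List (ℕ × List ℕ)) (hp : ∀ a ∈ p, P a) (h1 : allc m o L R p d = true) :
    p.map t = (d.map Prod.fst).map t' := by
  induction p generalizing d with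
  | nil =>
    cases d
    exacts [rfl, (Bool.false_ne_true h1).elim]
  | cons a p ih =>
    obtain _ | ⟨c, d⟩ := d
    · exact (Bool.false_ne_true h1).elim
    obtain ⟨ha, hp⟩ := List.forall_mem_cons.1 hp
    rw [allc, Bool.and_eq_true] at h1
    rw [List.map_cons, List.map_cons, List.map_cons, ih d hp h1.2, h a ha c h1.1]

include hm ho h1 hL in
theorem con3_spec {R l : List ℕ} (hR : ∀ a ∈ R, C.In a) (hl : ∀ g ∈ l, C.In g) {d : List (ℕ × List ℕ)} {f : List ℕ}
    (h : con3 m o L R l d f = true) : ∑ j ∈ range f.length, f.getD j 0 * T ⊤ (ρ (C.el (R.getD j o))) =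
      2 * 3 ^ l.length * (dm (fixL ⊤ (l.map fun a => ρ (C.el a))) : ℤ) := by
  simp only [con3, Bool.and_eq_true, List.all_eq_true, beq_iff_eq, Nat.blt_eq] at h
  obtain ⟨⟨⟨a, b⟩, c⟩, e⟩ := h
  rw [← cen3_sum hm ho h1 ρ hl a, allc_spec (t' := fun j => T ⊤ (ρ (C.el (R.getD j o))))
    (fun a ha c h => cls3_spec hm ho hL ρ hR ha h) _ d (prods3_ind (by simpa) fun g hg a ha => hm ▸ C.in_mul _ _ (hl g hg) ha) b,
    sum_count _ (n := f.length) _ (by simpa using fun a b h => c _ h)]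
  refine sum_congr rfl fun j hj => ?_
  conv_lhs => rw [← e]
  simp [List.getD, mem_range.1 hj]

end CL.E72
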