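/-
The 56-dimensional module of `E₇(2)` and the semisimple classes of small order.
-/
import Cfsg.Agent.KSG.E72.DatN
import Cfsg.Agent.KSG.E72.Cod3
import Cfsg.Agent.KSG.E72.Aut
import Cfsg.Agent.S1064
import Cfsg.Agent.S1265
import Cfsg.Agent.S4443

set_option autoImplicit false
set_option maxRecDepth 20000
set_option backward.isDefEq.respectTransparency false

namespace CL.E72
open Module Function Finset CL.Chev CL.AltE Cfsg.Lie
open Matrix hiding zpow_add zpow_mul zpow_sub one_zpow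

/-- the algebraic closure -/
abbrev K2 := AlgebraicClosure F2

/-- the group -/
abbrev G7 := chevE7.group F2

/-- the module -/
abbrev V56 := Fin 56 → F2

theorem card_G7 : Nat.card G7 = 7997476042075799759100487262680802918400 := by
  simpa using Cfsg.Agent.S1064.result (ZMod.card 2)

instance : Finite G7 := Nat.finite_of_card_ne_zero (by rw [card_G7]; norm_num)

/-- the dimension of the fixed space -/
noncomputable def fd {Y : Type*} [Group Y] (ρ : Y →* End F2 V56) (g : Y) : ℕ := dm ((ρ g).eigenspace 1)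

/-- the data of the classes -/
structure Dat {Y : Type*} [Group Y] (ρ : Y →* End F2 V56) : Prop where
  one : ∀ g n, ¬ 2 ∣ n → g ^ n = 1 → fd ρ g = 56 → g = 1
  d9 : ∀ g, g ^ 9 = 1 → (fd ρ g, fd ρ (g ^ 3)) ∈ L9
  d13 : ∀ g, g ^ 13 = 1 → fd ρ g ∈ [56, 8]
  d15 : ∀ g, g ^ 15 = 1 → (fd ρ g, fd ρ (g ^ 5), fd ρ (g ^ 3)) ∈ L15

theorem rank_add {F : Type*} [Field F] {n : ℕ} (M : Matrix (Fin n) (Fin n) F) :
    (1 - M).rank + finrank F ((toEnd _ F M).eigenspace 1) = n := by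
  rw [E83.eig_one, show 1 - toEnd _ F M = (1 - M).mulVecLin from LinearMap.ext fun v => by
    simp [toEnd_apply, sub_mulVec], Matrix.rank, LinearMap.finrank_range_add_finrank_ker, finrank_fin_fun]

theorem finrank_map {F K : Type*} [Field F] [Field K] (f : F →+* K) {n : ℕ} (M : Matrix (Fin n) (Fin n) F) :
    finrank K ((toEnd _ K (M.map f)).eigenspace 1) = finrank F ((toEnd _ F M).eigenspace 1) := by
  have h := rank_add (M.map f)
  rw [← Matrix.map_one f f.map_zero f.map_one, ← Matrix.map_sub _ f.map_sub, Cfsg.Agent.S4443.rank_map] at h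
  have := rank_add M
  omega

theorem wrepE_map {D D' : ChevalleyDatum} [Good D] [Good D'] {F K : Type*} [Field F] [Field K] (f : F →+* K) {T : Emb}
    (h : T.Ok D D') (i0 : Fin D'.rank) (h1 : ∀ r, co (h.rho r) i0 = 0) {N : ℕ} {e : Fin N → Rt D'}
    (he : Injective e) (h2 : ∀ s, co s i0 = 1 ↔ ∃ k, e k = s) (P : Fin D.rank → List (ℤ × Fin N)) (hP) (r : Rt D) (t : F) :
    ∃ M : Matrix (Fin N) (Fin N) F, M.map f = (wrepE (K := K) h i0 h1 he h2 P hP).ρ ((stS D K).x r (f t)) :=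
  ⟨(xR D' F (h.rho r) (T.c r * t)).submatrix (Sum.inr ∘ e) (Sum.inr ∘ e), by
    change _ = (adjE h _).submatrix _ _
    rw [adjE, MonoidHom.comp_apply, stS_x, ssLift_stGen]
    change _ = (xR D' K (h.rho r) (T.c r * f t)).submatrix _ _
    rw [← map_intCast f, ← map_mul, ← xR_map]; rfl⟩

theorem exists_lift {G F K : Type*} [Group G] [Field F] [Field K] (f : F →+* K) {N : ℕ}
    (ρ : G →* Matrix (Fin N) (Fin N) K) {s : Set G} (hs : Subgroup.closure s = ⊤)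
    (h : ∀ x ∈ s, (∃ M : Matrix (Fin N) (Fin N) F, M.map f = ρ x) ∧ ∃ M : Matrix (Fin N) (Fin N) F, M.map f = ρ x⁻¹) :
    ∃ ρ' : G →* End F (Fin N → F), ∀ g, finrank F ((ρ' g).eigenspace 1) = finrank K ((toEnd _ K (ρ g)).eigenspace 1) := by
  have hf : Injective f.mapMatrix := Matrix.map_injective (m := Fin N) (n := Fin N) f.injective
  have h1 : ∀ g, ∃ M, f.mapMatrix M = ρ g := fun g => by
    have hg := hs.ge (Subgroup.mem_top g)
    induction hg using Subgroup.closure_induction'' with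
    | mem x hx => exact (h x hx).1
    | inv_mem x hx => exact (h x hx).2
    | one => exact ⟨1, by simp only [map_one]⟩
    | mul x y _ _ ihx ihy => exact ⟨ihx.choose * ihy.choose, by simp only [map_mul, ihx.choose_spec, ihy.choose_spec]⟩
  choose M hM using h1
  exact ⟨(toEnd _ _).comp ⟨⟨M, hf (by simp only [hM, map_one])⟩, fun a b => hf (by simp only [hM, map_mul])⟩, fun g =>
    (finrank_map f (M g)).symm.trans (by rw [← hM]; rfl)⟩

theorem w56_map {F K : Type*} [Field F] [Field K] (f : F →+* K) (r : Rt chevE7) (t : F) :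
    ∃ M : Matrix (Fin 56) (Fin 56) F, M.map f = (w56 K).ρ ((stS chevE7 K).x r (f t)) := by
  unfold w56
  exact wrepE_map f embE7E8_ok _ _ _ _ _ _ r t

theorem exists_rho {D : ChevalleyDatum} [Good D] {F K : Type*} [Field F] [Field K] {f : F →+* K} {N : ℕ}
    (W : WRep (stS_R3 (D := D) (K := K)) N)
    (hW : ∀ r t, ∃ M : Matrix (Fin N) (Fin N) F, M.map f = W.ρ ((stS D K).x r (f t))) {ψ : D.group F →* D.SteinbergGroup K}
    (h : ∀ r t, ψ ((stG D F).x r t) = (stS D K).x r (f t)) : ∃ ρ : D.group F →* End F (Fin N → F),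
      ∀ g, finrank F ((ρ g).eigenspace 1) = finrank K ((W.E (ψ g)).eigenspace 1) := by
  have hx : ∀ r t, ∃ M : Matrix (Fin N) (Fin N) F, M.map f = (W.ρ.comp ψ) ((stG D F).x r t) := fun r t => by
    rw [MonoidHom.comp_apply, h]
    exact hW r t
  refine exists_lift f (W.ρ.comp ψ) (stG_top (D := D) (F := F)) ?_
  rintro _ ⟨r, -, t, rfl⟩
  rw [← StData.x_neg]
  exact ⟨hx r t, hx r _⟩

variable {φ : K2 →+* K2} {σ : Monoid.End (chevE7.SteinbergGroup K2)} {ψ : G7 →* chevE7.SteinbergGroup K2}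
  (A : (stS chevE7 K2).Alg φ 2 σ) (h1 : Injective ψ) (h2 : ∀ y, y ∈ ψ.range ↔ σ y = y)

include A h2 in
theorem hist7 {n : ℕ} (hn : ¬ 2 ∣ n) {C : Fin 7 → ℕ} (T : Tab (rootSys chevE7) wt56 n th7 C) {Q : (ℕ → ℕ) → Bool}
    (hQ : alcAll (List.ofFn fun j => (th7 j, C j)) (fun S => (fun H : ℕ → ℕ => !Nat.beq (H 1) (H 2) || Q H)
      (hist 56 n S)) n 0 = true) {g : G7} (hg : g ^ n = 1) : ∃ H : ℕ → ℕ, Q H = true ∧
      ∀ k, H k % 256 = finrank K2 (((w56 K2).E (ψ (g ^ k))).eigenspace 1) := by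
  obtain ⟨h0, z, hz⟩ := exists_root 2 hn
  have hg' : ψ g ^ n = 1 := by rw [← map_pow, hg, map_one]
  obtain ⟨H, a1, a2, a3⟩ := exists_hist A (w56 _) ((w56_wt (K := K2)).symm ▸ T) hz
    (Q := fun H => !Nat.beq (H 1) (H 2) || Q H) hQ hg'
  obtain ⟨w, hw, t, ht, y, hy⟩ := A.exists_act_eq_pow ((h2 (ψ g)).1 ⟨g, rfl⟩) fun e => h0 (by
    obtain ⟨k, hk⟩ := orderOf_dvd_of_pow_eq_one hg'
    rw [hk, Nat.cast_mul, e, zero_mul])
  obtain ⟨m, -, hm⟩ := (stS chevE7 K2).exists_acts hw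
  rw [a3 1 2 (isConj_iff.2 ⟨y⁻¹ * m * y, ?_⟩), Nat.beq_refl, Bool.not_true, Bool.false_or] at a1
  · exact ⟨H, a1, fun k => by
      have := a2 k 0 T.pos
      rwa [pow_zero, pow_zero, Nat.div_one, ← map_pow] at this⟩
  have := A.r3.conj_torHom hm t
  rw [ht, map_pow, ← hy, conj_pow] at this
  calc _ = y⁻¹ * (m * (y * ψ g * y⁻¹) * m⁻¹) * y := by group
    _ = _ := by rw [this]; group

include A h1 h2 in
theorem dat_127 : ∃ g : G7, g ^ 127 = 1 ∧ finrank K2 (((w56 K2).E (ψ g)).eigenspace 1) = 0 := by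
  obtain ⟨h0, z, hz⟩ := exists_root 2 (n := 127) (by norm_num)
  obtain ⟨z, rfl⟩ := hz.isUnit (by norm_num)
  have ho := (IsPrimitiveRoot.coe_units_iff.1 hz).eq_orderOf.symm
  obtain ⟨y, hy⟩ := A.exists_conj_fixed_iff (word_mem_W (D := chevE7) ([0, 2, 3, 4, 5, 6] : List (Fin 7)))
  obtain ⟨g, hg⟩ := (h2 _).2 ((hy fun i => z ^ u127 i).2 (by
    rw [RootSys.act_zpow_const, coM_word]
    funext i
    rw [Pi.pow_apply, ← zpow_natCast, ← zpow_mul, zpow_eq_zpow_iff_modEq, ho]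
    exact dat127.1 i))
  refine ⟨g, h1 ?_, ?_⟩
  · rw [map_pow, hg, ← inv_inv y, inv_inv y⁻¹, conj_pow, ← map_pow]
    refine (congrArg (fun t => y⁻¹ * A.r3.torHom t * y⁻¹⁻¹) (show _ = 1 from funext fun i => ?_)).trans (by simp)
    rw [Pi.pow_apply, ← zpow_natCast, ← zpow_mul, mul_comm, zpow_mul, zpow_natCast, ← ho, pow_orderOf_eq_one, one_zpow,
      Pi.one_apply]
  · rw [finrank_conj _ (g' := A.r3.torHom fun i => z ^ u127 i) (isConj_iff.2 ⟨y, by rw [hg]; group⟩)]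
    refine ((w56 K2).finrank_tor _ _ (fun _ => False) fun i => ?_).trans (by simp)
    rw [w56_wt, uchr_zpow_const, Units.val_eq_one, ← orderOf_dvd_iff_zpow_eq_one, ho]
    exact ⟨False.elim, dat127.2 i⟩

theorem exists_dat : ∃ ρ : G7 →* End F2 V56, Dat ρ ∧ ∃ g, g ^ 127 = 1 ∧ (ρ g).eigenspace 1 = ⊥ := by
  obtain ⟨φ, σ, ψ, A, h1, h2, h3⟩ := exists_alg (F := F2) (D := chevE7) (by simp) (card_ker_E7.trans (by simp))
  rw [ZMod.card] at A
  obtain ⟨ρ, hρ⟩ := exists_rho (w56 K2) (w56_map _) h3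
  replace hρ : ∀ g, fd ρ g = _ := hρ
  obtain ⟨g, a, b⟩ := dat_127 A h1 h2
  refine ⟨ρ, ⟨fun g n hn hg e => h1 ((eq_one_of_finrank A (w56 _) (exists_root 2 hn).1 (by rw [← map_pow, hg, map_one])
    ((hρ g).symm.trans e)).trans (map_one ψ).symm), fun g hg => ?_, fun g hg => ?_, fun g hg => ?_⟩, g, a,
    Submodule.finrank_eq_zero.1 ((hρ g).trans b)⟩
  · obtain ⟨H, a, b⟩ := hist7 A h2 (by norm_num) tab7_9 (Q := fun H => decide ((H 1 % 256, H 3 % 256) ∈ L9)) alc7_9 hg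
    rwa [decide_eq_true_eq, b, b, ← hρ, ← hρ, pow_one] at a
  · obtain ⟨H, a, b⟩ := hist7 A h2 (by norm_num) tab7_13 (Q := fun H => decide (H 1 % 256 ∈ [56, 8])) alc7_13 hg
    rwa [decide_eq_true_eq, b, ← hρ, pow_one] at a
  · obtain ⟨H, a, b⟩ := hist7 A h2 (by norm_num) tab7_15
      (Q := fun H => decide ((H 1 % 256, H 5 % 256, H 3 % 256) ∈ L15)) alc7_15 hg
    rwa [decide_eq_true_eq, b, b, b, ← hρ, ← hρ, ← hρ, pow_one] at a

theorem Dat.comp {Y Z : Type*} [Group Y] [Group Z] {ρ : Y →* End F2 V56} (D : Dat ρ) {j : Z →* Y} (hj : Injective j) :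
    Dat (ρ.comp j) :=
  ⟨fun g n hn hg e => hj ((D.one _ n hn (by rw [← map_pow, hg, map_one]) e).trans (map_one j).symm),
    fun g hg => by simpa only [← map_pow, fd, MonoidHom.comp_apply] using D.d9 (j g) (by rw [← map_pow, hg, map_one]),
    fun g hg => D.d13 (j g) (by rw [← map_pow, hg, map_one]),
    fun g hg => by simpa only [← map_pow, fd, MonoidHom.comp_apply] using D.d15 (j g) (by rw [← map_pow, hg, map_one])⟩

theorem card_dvd_aut {H : Type*} [Group H] [Finite H] {n m : ℕ} (h : AutDat (Cfsg.generalizedFittingSubgroup H) n m) :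
    Nat.card H ∣ m := by
  rw [← h.2.2]
  refine Subgroup.card_dvd_of_injective (MulAut.conjNormal : H →* MulAut (Cfsg.generalizedFittingSubgroup H))
    ((injective_iff_map_eq_one _).2 fun x hx => ?_)
  have h2 : ∀ y : Cfsg.generalizedFittingSubgroup H, (y : H) * x = x * y := fun y =>
    (mul_inv_eq_iff_eq_mul.1 (congrArg Subtype.val (DFunLike.congr_fun hx y))).symm
  have h3 := Cfsg.Agent.S1265.result (G := H) (x := x) fun y hy => h2 ⟨y, hy⟩
  exact congrArg Subtype.val (h.1.le (x := ⟨x, h3⟩) (Subgroup.mem_center_iff.2 fun y => Subtype.ext (h2 y)))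

theorem NoFix.comp {Y Z : Type*} [Group Y] [Group Z] {ρ : Y →* End F2 V56} (h : NoFix ρ) {j : Z →* Y}
    (hj : Surjective j) : NoFix (ρ.comp j) :=
  ⟨fun v hv => h.1 v (hj.forall.2 hv), fun φ hφ => h.2 φ (hj.forall.2 hφ)⟩

theorem nofix_fstar {G : Type*} [Group G] [Finite G] (hG : Nat.card G = 7997476042075799759100487262680802918400)
    (ρ : G →* End F2 V56) {g : G} (a : g ^ 127 = 1) (b : (ρ g).eigenspace 1 = ⊥) {H : Subgroup G} (hH : IsCoatom H)
    {n m : ℕ} (h : AutDat (Cfsg.generalizedFittingSubgroup H) n m)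
    (hm : m ∣ 4 * n ∧ m < 2 ^ 76 ∨ m ∣ 6 * n ∧ m < 2 ^ 20) :
    NoFix (ρ.comp (H.subtype.comp (Cfsg.generalizedFittingSubgroup H).subtype)) := by
  have h1 := card_dvd_aut h
  have h2 := (Cfsg.generalizedFittingSubgroup H).index_mul_card
  have h0 : 0 < Nat.card (Cfsg.generalizedFittingSubgroup H) := Nat.card_pos
  rw [h.2.1] at h0 h2
  refine nofix ρ (finrank_fin_fun _) a b hH _ (hm.imp (fun h => ?_) fun h => ?_) <;> rw [hG] <;>
    have h4 := h1.trans h.1 <;> have h3 := Nat.le_of_dvd (Nat.pos_of_dvd_of_pos h.1 (by omega)) h1 <;>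
    refine ⟨Nat.dvd_of_mul_dvd_mul_right h0 (by rwa [h2]), ?_⟩ <;> have h5 := h.2 <;> norm_num at h5 ⊢ <;> omega

theorem exists_rep {Y : Type*} [Group Y] {H : Subgroup G7} (hH : IsCoatom H)
    (e : Cfsg.generalizedFittingSubgroup H ≃* Y) : ∃ ρ : Y →* End F2 V56, Dat ρ ∧ ∀ n m, AutDat Y n m →
      (m ∣ 4 * n ∧ m < 2 ^ 76 ∨ m ∣ 6 * n ∧ m < 2 ^ 20) → NoFix ρ := by
  obtain ⟨ρ, D, g, a, b⟩ := exists_dat
  exact ⟨_, (D.comp (j := H.subtype.comp (Subgroup.subtype _))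
    (H.subtype_injective.comp (Subgroup.subtype_injective _))).comp (j := e.symm.toMonoidHom) e.symm.injective,
    fun n m h hm => (nofix_fstar card_G7 ρ a b hH (h.of_equiv e) hm).comp e.symm.surjective⟩

theorem fd_one {Y : Type*} [Group Y] (ρ : Y →* End F2 V56) : fd ρ 1 = 56 := finrank_one ρ

theorem T_eq {Y : Type*} [Group Y] (ρ : Y →* End F2 V56) (g : Y) : T ⊤ (ρ g) = 3 * (fd ρ g : ℤ) - fd ρ (g ^ 3) := by
  rw [T, top_inf_eq, top_inf_eq, ← map_pow]; rfl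

theorem T_one {Y : Type*} [Group Y] (ρ : Y →* End F2 V56) : T ⊤ (ρ 1) = 112 := by
  rw [T_eq, one_pow, fd_one]; rfl

variable {Y : Type*} [Group Y] {ρ : Y →* End F2 V56} (D : Dat ρ)
include D

theorem Dat.f3 {g : Y} (h : g ^ 3 = 1) (h1 : g ≠ 1) : fd ρ g = 2 ∨ fd ρ g = 14 ∨ fd ρ g = 20 ∨ fd ρ g = 32 := by
  have := D.d9 g (by rw [show 9 = 3 * 3 from rfl, pow_mul, h, one_pow])
  have h2 := mt (D.one g 3 (by norm_num) h) h1
  rw [h, fd_one] at this
  simp [L9] at this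
  omega

theorem Dat.t3 {g : Y} (h : g ^ 3 = 1) (h1 : g ≠ 1) :
    T ⊤ (ρ g) = -50 ∨ T ⊤ (ρ g) = -14 ∨ T ⊤ (ρ g) = 4 ∨ T ⊤ (ρ g) = 40 := by
  have := D.f3 h h1
  rw [T_eq, h, fd_one]
  omega

theorem Dat.f5 {g : Y} (h : g ^ 5 = 1) (h1 : g ≠ 1) : fd ρ g = 16 := by
  have := D.d15 g (by rw [show 15 = 5 * 3 from rfl, pow_mul, h, one_pow])
  have h2 := mt (D.one g 5 (by norm_num) h) h1
  rw [h, fd_one] at this
  simp [L15] at this
  omega

theorem Dat.f13 {g : Y} (h : g ^ 13 = 1) (h1 : g ≠ 1) : fd ρ g = 8 := by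
  have := D.d13 g h
  have h2 := mt (D.one g 13 (by norm_num) h) h1
  simp at this
  omega

omit D in
theorem f2 (ρ : Y →* End F2 V56) {g : Y} (h : g ^ 2 = 1) : 28 ≤ fd ρ g := by
  have := half ⊤ (t := ρ g) (fun _ _ => trivial) (by rw [← map_mul, ← sq, h, map_one])
  rw [top_inf_eq, dm, finrank_top, finrank_fin_fun] at this
  rw [fd]; omega

omit D in
theorem NoFix.scott (N : NoFix ρ) {a b : Y} (h : Subgroup.closure {a, b} = ⊤) : fd ρ a + fd ρ b + fd ρ (a * b) ≤ 56 :=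
  (E72.scott N h).trans_eq (finrank_fin_fun _)

theorem Dat.no255 (N : NoFix ρ) (h : ∃ a b : Y, a ^ 2 = 1 ∧ b ^ 5 = 1 ∧ (a * b) ^ 5 = 1 ∧ b ≠ 1 ∧ a * b ≠ 1 ∧
    Subgroup.closure {a, b} = ⊤) : False := by
  obtain ⟨a, b, h1, h2, h3, h4, h5, h6⟩ := h
  have := N.scott h6
  have := f2 ρ h1
  have := D.f5 h2 h4
  have := D.f5 h3 h5
  omega

end CL.E72
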