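/-
Coded matrix groups over the field with three elements.
-/
import Cfsg.Agent.KSG.E72.Dat

set_option autoImplicit false

namespace CL.E72
open Module Function Finset CL.E83 CL.AltE Matrix

/-- decoding -/
def decF (n a : ℕ) : Matrix (Fin n) (Fin n) (ZMod 3) := decO (ZMod 3) (Equiv.refl _) 0 a

theorem decF_mul (n a b : ℕ) : decF n (mulR n a b) = decF n a * decF n b := dec_mulR _ a b

theorem decF_tr (n a : ℕ) : decF n (trR n a) = (decF n a)ᵀ := dec_trR _ a

variable {Q M : Type*} [Group Q] [Monoid M] {f : Q →* M} (hf : Injective f) {dec : ℕ → M} {m : ℕ → ℕ → ℕ}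
  (hm : ∀ a b, dec (m a b) = dec a * dec b)

/-- the coded group -/
noncomputable def codM : Cod Q := Cod.ofDec hf (MonoidHom.id Q) dec m id (fun _ => false) hm (by simp)

theorem codM_mul : (codM hf hm).mul = m := rfl

theorem codM_in {a : ℕ} : (codM hf hm).In a ↔ ∃ q, f q = dec a := Iff.rfl

theorem codM_el {a : ℕ} (h : (codM hf hm).In a) : f ((codM hf hm).el a) = dec a := invFun_eq h

theorem codM_one {o : ℕ} (h : dec o = 1) : (codM hf hm).In o ∧ (codM hf hm).el o = 1 :=
  ⟨⟨1, by rw [h, map_one]⟩, hf (by rw [codM_el hf hm ⟨1, by rw [h, map_one]⟩, h, map_one])⟩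

theorem codM_ne {a : ℕ} (h : (codM hf hm).In a) (h1 : dec a ≠ 1) : (codM hf hm).el a ≠ 1 := fun e =>
  h1 (by rw [← codM_el hf hm h, e, map_one])

theorem el_cube {G : Type*} [Group G] {C : Cod G} {m : ℕ → ℕ → ℕ} (hm : C.mul = m) {a b : ℕ} (h : C.In a)
    (e : m a (m a a) = b) : C.el a ^ 3 = C.el b := by
  subst hm
  rw [← e, C.el_mul _ _ h (C.in_mul _ _ h h), C.el_mul _ _ h h, pow_three]

theorem Dat.comp4 {Y Z : Type*} [Group Y] [Group Z] {ρ : Y →* End F2 V56} (D : Dat ρ) {j : Z →* Y}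
    (hj : ∀ g, j g = 1 → g ^ 4 = 1) : Dat (ρ.comp j) :=
  ⟨fun g n hn hg e => by
    have := (pow_gcd_eq_one.2 ⟨hj g (D.one _ n hn (by rw [← map_pow, hg, map_one]) e), hg⟩ :)
    rwa [show Nat.gcd 4 n = 1 from Nat.Coprime.pow_left 2 ((Nat.Prime.coprime_iff_not_dvd Nat.prime_two).2 hn),
      pow_one] at this,
    fun g hg => by simpa only [← map_pow, fd, MonoidHom.comp_apply] using D.d9 (j g) (by rw [← map_pow, hg, map_one]),
    fun g hg => D.d13 (j g) (by rw [← map_pow, hg, map_one]),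
    fun g hg => by simpa only [← map_pow, fd, MonoidHom.comp_apply] using D.d15 (j g) (by rw [← map_pow, hg, map_one])⟩

/-- the values on the classes of elements of order three -/
def L3 : List ℤ := [-50, -14, 4, 40]

theorem Dat.t3' {Y : Type*} [Group Y] {ρ : Y →* End F2 V56} (D : Dat ρ) {g : Y} (h : g ^ 3 = 1) (h1 : g ≠ 1) :
    T ⊤ (ρ g) ∈ L3 := by simpa [L3] using D.t3 h h1

end CL.E72
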