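/-
Further tools for coded groups and fixed spaces.
-/
import Cfsg.Agent.KSG.E72.MatR

set_option autoImplicit false

namespace CL.E72
open Module Function Finset CL.E83 CL.AltE Module.End

variable {G : Type*} [Group G] {C : Cod G} {m : ℕ → ℕ → ℕ} (hm : C.mul = m) {o : ℕ} (ho : C.In o) (h1 : C.el o = 1)

include hm ho h1 in
theorem el_pow {a b : ℕ} (ha : C.In a) (n : ℕ) (h : ev m o [a] (List.replicate n 0) = b) : C.el a ^ n = C.el b := by
  subst h hm
  induction n with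
  | zero => exact (pow_zero _).trans h1.symm
  | succ n ih => exact (pow_succ' _ _).trans (ih ▸ (C.el_mul _ _ ha (in_ev rfl ho (by simpa) _)).symm)

include hm in
theorem el_mul' {a b c : ℕ} (ha : C.In a) (hb : C.In b) (h : m a b = c) : C.el a * C.el b = C.el c := by
  subst h hm
  exact (C.el_mul _ _ ha hb).symm

include hm in
theorem cj_spec {a b c : ℕ} (ha : C.In a) (hb : C.In b) (hc : C.In c) (h : m c a = m b c) : IsConj (C.el a) (C.el b) :=
  isConj_iff.2 ⟨_, mul_inv_eq_iff_eq_mul.2 ((el_mul' hm hc ha h).trans (el_mul' hm hb hc rfl).symm)⟩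

variable {V : Type*} [AddCommGroup V] [Module F2 V] (ρ : G →* End F2 V)

theorem fx_pow (g : G) (n : ℕ) : (ρ g).eigenspace 1 ≤ (ρ (g ^ n)).eigenspace 1 := fun v hv => mem_fx.2 (by
  rw [map_pow, eig_pow (mem_eigenspace_iff.1 hv), one_pow, one_smul])

theorem fx15 {g : G} (h : g ^ 15 = 1) : (ρ (g ^ 3)).eigenspace 1 ⊓ (ρ (g ^ 5)).eigenspace 1 = (ρ g).eigenspace 1 :=
  le_antisymm (fun v hv => mem_fx.2 (by
    rw [show g = (g ^ 3) ^ 2 * (g ^ 5) ^ 2 by rw [← pow_mul, ← pow_mul, ← pow_add, pow_succ g 15, h, one_mul], map_mul,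
      mul_apply, mem_fx.1 (fx_pow ρ _ 2 hv.2), mem_fx.1 (fx_pow ρ _ 2 hv.1)])) (le_inf (fx_pow ρ g 3) (fx_pow ρ g 5))

theorem fx_stab {x y : G} (h : Commute x y) : ∀ v ∈ (ρ y).eigenspace 1, ρ x v ∈ (ρ y).eigenspace 1 := fun v hv =>
  mem_fx.2 (by rw [← mul_apply, ← map_mul, ← h.eq, map_mul, mul_apply, mem_fx.1 hv])

end CL.E72
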