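/-
`A₁₃` fixes a vector.
-/
import Cfsg.Agent.KSG.E72.Tool
import Cfsg.Agent.KSG.E72.GenL

set_option autoImplicit false
set_option maxRecDepth 20000

namespace CL.E72
open Module Function Finset CL.E83 CL.AltE Equiv

/-- a digit -/
def dP (a i : ℕ) : ℕ := Nat.mod (Nat.mod (Nat.div a (Nat.pow 16 i)) 16) 13

/-- the product -/
noncomputable def mulP (a b : ℕ) : ℕ := frc a fun a => frc b fun b => sumN (fun i => Nat.mul (dP a (dP b i)) (Nat.pow 16 i)) 13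

/-- decoding -/
def decP (a : ℕ) : Function.End (Fin 13) := fun i => ⟨dP a i, Nat.mod_lt _ (by norm_num)⟩

theorem decP_mul (a b : ℕ) : decP (mulP a b) = decP a * decP b := funext fun i => Fin.ext (by
  rw [mulP, frc_eq, frc_eq, sumN_eq]
  exact (congrArg (· % 13) (digit (B := 16) (fun i => dP a (dP b i))
    (fun i _ => (Nat.mod_lt _ (by norm_num)).trans (by norm_num)) i.2)).trans (Nat.mod_mod _ _))

/-- the permutation representation -/
def fA : alternatingGroup (Fin 13) →* Function.End (Fin 13) := MulAction.toEndHom.comp (Subgroup.subtype _)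

theorem fA_injective : Injective fA := fun _ _ e => Subtype.ext (Equiv.ext (congrFun e))

/-- generators -/
def wA : List (ℕ × Fin 13 × Fin 13) := [(3582863703552258, 1, 2), (3582863703544323, 1, 3), (3582863703355908, 1, 4), (3582863699358213, 1, 5), (3582863619666438, 1, 6), (3582862092939783, 1, 7), (3582833638781448, 1, 8), (3582313947738633, 1, 9), (3572968098902538, 1, 10), (3406941843108363, 1, 11), (486638959735308, 1, 12), (3582863703552033, 2, 1), (3582863703540273, 3, 1), (3582863703290433, 4, 1), (3582863698309713, 5, 1), (3582863602889313, 6, 1), (3582861824504433, 7, 1), (3582829343814273, 8, 1), (3582245228262033, 9, 1), (3571868587274913, 10, 1), (3389349657064113, 11, 1), (205163983024833, 12, 1)]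

/-- generators -/
def lA : List ℕ := [3582863703552258, 3582863703544323, 3582863703355908, 3582863699358213, 3582863619666438, 3582862092939783, 3582833638781448, 3582313947738633, 3572968098902538, 3406941843108363, 486638959735308, 3582863703552033, 3582863703540273, 3582863703290433, 3582863698309713, 3582863602889313, 3582861824504433, 3582829343814273, 3582245228262033, 3571868587274913, 3389349657064113, 205163983024833]

/-- the representatives -/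
def rA : List ℕ := [3582863703552528, 3582863703552033, 2737957194972183, 3582855396802593, 3548839255818273, 3582827921106243]

/-- the elements used -/
def wA' : List (ℕ × List ℕ) := [(3582863703552033, [11]), (2737957194972183, [14, 5, 11, 7, 21, 0]), (3582855396802593, [11, 12, 3, 13, 1, 15, 6, 16, 4]), (3548839255818273, [11, 12, 3, 13, 1, 15, 6, 16, 4, 18, 9, 19, 7]), (3582827921106243, [17, 3, 11, 5, 13, 15, 1]), (3548847562568208, [18, 9, 19, 7]), (3582859171676688, [12, 3, 13, 1, 15, 5, 17, 4]), (3582836225828163, [15, 1, 5, 13, 11, 6, 14, 0]), (3582855398830608, [15, 6, 16, 4]), (3582863701525008, [12, 3, 13, 1]), (3582863701524513, [11, 12, 3, 13, 1]), (3582863701524738, [0, 12, 3, 13, 1]), (3579368170598658, [0, 15, 7, 16, 8, 17, 4]), (3579368169493008, [12, 2, 14, 1, 15, 7, 16, 8, 17, 4]), (3579368169492738, [0, 12, 2, 14, 1, 15, 7, 16, 8, 17, 4]), (3579368169492513, [11, 12, 2,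 14, 1, 15, 7, 16, 8, 17, 4]), (3578538956698128, [15, 8, 18, 6, 16, 4])]

theorem chkA_0 : (∀ a ∈ [3548847562568208, 3582855396802593, 3582859171676688, 3582836225828163], a ∈ wA'.map Prod.fst) ∧ con3 mulP 3582863703552528 lA rA [3548847562568208, 3582855396802593, 3582859171676688, 3582836225828163]
    [(0, [18, 1, 4, 21]), (3, [14, 5, 6, 12]), (3, [17, 2, 3, 15]), (2, [17, 7, 14, 4, 21, 2, 11, 1]), (3, [12, 5, 6, 13]), (3, [16, 2, 3, 17]), (2, [13, 10, 16, 1, 11, 4, 18, 6]), (3, [13, 5, 6, 14]), (3, [15, 2, 3, 16]), (3, []), (3, [12, 4, 5, 13]), (3, [15, 1, 2, 16]), (2, [13, 5, 12, 7, 10]), (3, [13, 4, 5, 14]), (3, [17, 1, 2, 15]), (2, [17, 7, 3, 15, 10]), (3, [14, 4, 5, 12]), (3, [16, 1, 2, 17]), (3, [1, 14, 1, 16, 6, 16, 7, 20, 7]), (3, [13, 6, 4, 14]), (3, [16, 3, 1, 17]), (2, [15, 3, 17, 8, 18, 21]), (3, [14, 6, 4, 12]), (3, [15, 3, 1, 16]), (2, [12, 5, 13, 10, 7]), (3, [12, 6, 4, 13]),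 (3, [17, 3, 1, 15]), (1, [20, 0, 19, 18]), (4, [14, 5, 6, 12]), (4, [17, 2, 3, 15]), (3, [18, 19, 0, 20, 5, 17, 5]), (4, [12, 5, 6, 13]), (4, [16, 2, 3, 17]), (3, [18, 19, 0, 20, 2, 14, 2]), (4, [13, 5, 6, 14]), (4, [15, 2, 3, 16]), (4, []), (4, [12, 4, 5, 13]), (4, [15, 1, 2, 16]), (3, [12, 2, 12, 4, 18, 6, 20, 5, 19, 4]), (4, [13, 4, 5, 14]), (4, [17, 1, 2, 15]), (3, [12, 7, 13, 8, 14, 9, 12, 4, 17, 4]), (4, [14, 4, 5, 12]), (4, [16, 1, 2, 17]), (4, [17, 16, 0, 15, 2, 14, 2]), (4, [13, 6, 4, 14]), (4, [16, 3, 1, 17]), (3, [18, 3, 11, 9, 12, 19, 2]), (4, [14, 6, 4, 12]), (4, [15, 3, 1, 16]), (3, [18, 4, 8, 17, 0, 20, 5]), (4, [12, 6, 4, 13]), (4, [17, 3, 1, 15]), (1, [19, 18, 0, 20, 4]), (4, [14, 9, 13, 7, 16, 17, 1, 19]), (4, [17, 14, 12, 5, 12, 8, 20, 8]), (3, [19, 0, 20, 18, 4, 16, 4]), (4, [12, 17, 14, 4, 14, 7, 19, 7]), (4, [19, 0, 20, 5, 13, 18, 3, 17]), (3, [19, 18, 0, 20, 2, 14, 2]),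 (4, [13, 17, 12, 4, 12, 7, 19, 7]), (4, [15, 7, 13, 14, 5, 20, 6, 19]), (4, [20, 19, 0, 18, 0]), (4, [12, 16, 14, 6, 14, 8, 20, 8]), (4, [19, 6, 14, 0, 20, 1, 15, 18]), (3, [20, 6, 11, 7, 15, 19, 5, 2, 14, 2]), (4, [18, 4, 13, 20, 1, 17, 0, 19]), (4, [17, 13, 14, 5, 14, 7, 19, 7]), (3, [15, 8, 14, 0, 16, 7, 12, 17, 9, 13]), (4, [14, 16, 13, 6, 13, 7, 20, 7]), (4, [16, 13, 14, 4, 14, 8, 20, 8]), (4, [1, 14, 1, 16, 6, 16, 7, 19, 7]), (4, [13, 15, 12, 5, 12, 8, 20, 8]), (4, [16, 12, 13, 4, 13, 7, 20, 7]), (3, [1, 19, 2, 18, 3, 20, 1]), (4, [14, 15, 13, 5, 13, 7, 19, 7]), (4, [15, 12, 13, 6, 13, 7, 19, 7]), (3, [4, 20, 6, 18, 5, 19, 4]), (4, [12, 15, 14, 5, 14, 7, 20, 7]), (4, [17, 12, 13, 5, 13, 7, 19, 7])] [1, 2, 6, 32, 40, 0] = true := by decide +kernel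

theorem chkA_1 : (∀ a ∈ [3582855396802593, 3582859171676688, 3582855398830608, 3582836225828163], a ∈ wA'.map Prod.fst) ∧ con3 mulP 3582863703552528 lA rA [3582855396802593, 3582859171676688, 3582855398830608, 3582836225828163]
    [(0, []), (3, [14, 5, 6, 12]), (3, [17, 2, 3, 15]), (1, [17, 0, 16, 10, 4]), (5, [15, 5, 17, 4]), (5, [14, 12, 0, 13, 7, 19, 7]), (1, [17, 2, 11, 4, 5, 14]), (5, [1, 13, 1, 16, 6, 16, 8, 20, 8]), (5, [15, 17, 11, 5, 11, 2, 14, 2]), (2, [12, 0, 15, 21, 6, 18, 5, 13]), (3, [12, 5, 6, 13]), (3, [16, 2, 3, 17]), (1, [14, 0, 13, 12]), (5, [11]), (5, [17, 0, 16, 15, 8, 21, 8]), (2, [12, 7, 15, 0, 16, 2, 21, 6]), (5, [1, 14, 1, 16, 6, 16, 7, 19, 7]), (5, [17, 16, 0, 15, 2, 14, 2]), (2, [13, 7, 15, 10, 17, 0, 16, 1]), (3, [13, 5, 6, 14]), (3, [15, 2, 3, 16]), (2, [17, 7, 13, 0, 12, 10, 14, 4]), (5, [11, 12, 2, 14, 1]), (5, [13, 0, 12, 14, 8, 21, 8]), (1, [14, 13, 0, 12,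 6, 19]), (5, [2, 14, 2, 16, 6, 16, 7, 19, 7]), (5, [1, 16, 3, 17, 2, 15, 1]), (3, []), (3, [12, 4, 5, 13]), (3, [15, 1, 2, 16]), (3, [15, 6, 15, 7, 19, 7]), (5, [12, 2, 14, 1]), (5, [12, 13, 0, 14, 8, 20, 8]), (2, [12, 5, 13, 4, 21, 18]), (5, [0, 1, 13, 1, 15, 5, 15, 7, 19, 7]), (5, [14, 13, 0, 12, 5, 17, 5]), (2, [13, 4, 21, 16, 1, 18]), (3, [13, 4, 5, 14]), (3, [17, 1, 2, 15]), (3, [12, 2, 12, 7, 20, 7]), (5, [12, 3, 13, 1]), (5, [16, 0, 15, 17, 8, 21, 8]), (3, [13, 3, 13, 5, 17, 5]), (5, [2, 14, 2, 15, 6, 15, 7, 19, 7]), (5, [13, 12, 0, 14, 4, 16, 4]), (2, [17, 7, 3, 15, 10]), (3, [14, 4, 5, 12]), (3, [16, 1, 2, 17]), (1, []), (5, []), (5, [15, 16, 0, 17, 8, 20, 8]), (2, [15, 2, 21, 14, 6, 18]), (5, [1, 13, 1, 15, 6, 15, 7, 19, 7]), (5, [13, 12, 0, 14, 5, 17, 5]), (3, [2, 14, 2, 16, 6, 16, 9, 21, 9]), (3, [13, 6, 4, 14]), (3, [16, 3, 1, 17]), (2, [13, 5, 12, 8, 18, 21]), (5, [0]), (5, [13,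 14, 0, 12, 7, 20, 7]), (3, [1, 14, 1]), (5, [11, 1, 13, 1, 15, 6, 15, 8, 21, 8]), (5, [1, 17, 3, 15, 2, 16, 1]), (2, [15, 3, 17, 2, 21, 19, 7]), (3, [14, 6, 4, 12]), (3, [15, 3, 1, 16]), (2, [17, 10, 9, 18, 3, 15, 3]), (5, [15, 6, 16, 4]), (5, [14, 12, 11, 2, 11, 8, 20, 8]), (1, [3, 15, 3]), (5, [1, 13, 1, 15, 5, 15, 9, 21, 9]), (5, [12, 0, 13, 14, 4, 17, 4]), (2, [12, 5, 13, 6, 18, 21]), (3, [12, 6, 4, 13]), (3, [17, 3, 1, 15]), (3, [7, 19, 7]), (5, [0, 12, 3, 13, 1]), (5, [12, 0, 14, 13, 7, 20, 7]), (3, [4, 17, 4]), (5, [1, 14, 1, 15, 5, 15, 9, 21, 9]), (5, [12, 0, 13, 14, 4, 16, 4])] [1, 6, 12, 26, 0, 36] = true := by decide +kernel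

theorem chkA_2 : wA.map Prod.fst = lA ∧ (∀ x ∈ wA, 0 ≠ x.2.1 ∧ 0 ≠ x.2.2 ∧
    ∀ i, ((swap 0 x.2.1 * swap 0 x.2.2 : Perm (Fin 13)) i).1 = dP x.1 i) ∧ wds mulP 3582863703552528 lA wA' = true ∧
    (∀ a ∈ rA.tail, a ∈ wA'.map Prod.fst) := by
  decide +kernel

theorem chkA_3 : (∀ a ∈ rA.tail.take 4, mulP a (mulP a a) = 3582863703552528 ∧ ∃ i : Fin 13, dP a i ≠ i) ∧
    (∀ x ∈ [(3579368169493008, 3579368170598658, [12, 13, 0, 14]), (3579368169492513, 3579368169492738, [9, 21, 9]), (3582863701524513, 2737957194972183, [12, 7, 5, 13, 10])],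
      mulP (ev mulP 3582863703552528 lA x.2.2) x.1 = mulP x.2.1 (ev mulP 3582863703552528 lA x.2.2)) := by
  decide +kernel

set_option synthInstance.maxSize 1000 in
theorem chkA_4 : ∀ x ∈ [(3579368170598658, 3582863703552033), (3579368169493008, 3582863701525008), (3579368169492738, 3582863701524513), (3579368169492513, 3582863701524738)], x.1 ∈ wA'.map Prod.fst ∧
      x.2 ∈ wA'.map Prod.fst ∧ ev mulP 3582863703552528 [x.1] (List.replicate 3 0) = 3578538956698128 ∧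
      ev mulP 3582863703552528 [x.1] (List.replicate 5 0) = x.2 ∧ ev mulP 3582863703552528 [x.1] (List.replicate 15 0) = 3582863703552528 ∧
      mulP x.2 3578538956698128 = mulP 3578538956698128 x.2 ∧ mulP x.2 (mulP x.2 x.2) = 3582863703552528 := by
  decide +kernel

theorem chkA_5 : mulP 3582863703552033 3582863701525008 = 3582863701524513 ∧ mulP 3582863701525008 3582863703552033 = 3582863701524513 ∧
    mulP 3582863703552033 3582863701524513 = 3582863701524738 ∧ mulP 3582827921106243 (mulP 3582827921106243 3582827921106243) = 3582855396802593 ∧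
    3578538956698128 ∈ wA'.map Prod.fst ∧ ev mulP 3582863703552528 [3578538956698128] (List.replicate 5 0) = 3582863703552528 := by
  decide +kernel

set_option synthInstance.maxSize 2000 in
theorem chkA_6 : ∀ x ∈ L15, x.2.2 = 16 → x.2.1 ≠ 56 → ∀ y ∈ L15, y.2.2 = 16 → y.2.1 ≠ 56 → ∀ w ∈ L9,
    w.2 ≠ 56 → ∀ d ∈ [2, 14, 20, 32], y.2.1 + d ≤ 48 → 2 * x.1 + 2 * y.1 < 16 ∨ (2 * x.1 + 2 * y.1) % 3 ≠ 1 ∨
    ((6 * x.2.1 + 18 * y.2.1 + 96 * w.2 + 120 * d : ℤ) - 4368 < 0 ∨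
    ((6 * x.2.1 + 18 * y.2.1 + 96 * w.2 + 120 * d : ℤ) - 4368) % 162 ≠ 0) ∨
    ((18 * x.2.1 + 36 * y.2.1 + 42 * w.2 + 108 * w.1 : ℤ) - 2352) % 162 ≠ 0 ∨
    (18 * x.2.1 + 36 * y.2.1 + 42 * w.2 + 108 * w.1 : ℤ) - 2352 < 0 := by
  decide +kernel

theorem noA13 {ρ : alternatingGroup (Fin 13) →* End F2 V56} (D : Dat ρ) (N : NoFix ρ) : False := by
  obtain ⟨c1, c2, c3, c4⟩ := chkA_2
  obtain ⟨c5, c6⟩ := chkA_3
  have c7 := chkA_4
  obtain ⟨c8, c9, c10, c11, c12, c13⟩ := chkA_5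
  obtain ⟨ho, h1⟩ := codM_one fA_injective decP_mul (o := 3582863703552528)
    (funext fun i => Fin.ext ((by decide +kernel : ∀ i : Fin 13, dP 3582863703552528 i = i) i))
  have hm := codM_mul fA_injective decP_mul
  have hL : ∀ a ∈ lA, (codM fA_injective decP_mul).In a := c1 ▸ List.forall_mem_map.2 fun x hx =>
    ⟨⟨swap 0 x.2.1 * swap 0 x.2.2, Perm.mem_alternatingGroup.2 (by
      rw [map_mul, Perm.sign_swap (c2 x hx).1, Perm.sign_swap (c2 x hx).2.1]; rfl)⟩,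
      funext fun i => Fin.ext ((c2 x hx).2.2 i)⟩
  have hc := wds_spec hm ho hL c3
  have hR : ∀ a ∈ rA, (codM fA_injective decP_mul).In a := List.forall_mem_cons.2 ⟨ho, fun a ha => hc a (c4 a ha)⟩
  have he := fun a => codM_el fA_injective decP_mul (a := a)
  have hn := fun a => codM_ne fA_injective decP_mul (a := a)
  generalize codM fA_injective decP_mul = C at *
  have ht := fun a (ha : a ∈ rA.tail.take 4) => And.intro
    ((el_cube hm (hc a (c4 a (List.mem_of_mem_take ha))) (c5 a ha).1).trans h1)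
    (hn a (hc a (c4 a (List.mem_of_mem_take ha))) fun e => (c5 a ha).2.choose_spec (congrArg Fin.val (congrFun e _)))
  have k0 := con3_spec hm ho h1 hL ρ hR (fun a ha => hc a (chkA_0.1 a ha)) chkA_0.2
  have k1 := con3_spec hm ho h1 hL ρ hR (fun a ha => hc a (chkA_1.1 a ha)) chkA_1.2
  have k2 := el_cube hm (hR _ (by simp [rA])) c11
  have k7 := fun x hx => (fun h : C.el x.1 ^ 15 = 1 => And.intro (D.d15 _ h) (fx15 ρ h))
    ((el_pow hm ho h1 (hc _ (c7 x hx).1) _ (c7 x hx).2.2.2.2.1).trans h1)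
  have k8 := fun x hx => And.intro (el_pow hm ho h1 (hc _ (c7 x hx).1) _ (c7 x hx).2.2.1)
    (el_pow hm ho h1 (hc _ (c7 x hx).1) _ (c7 x hx).2.2.2.1)
  have k9 := fun x hx => And.intro (fx_stab ρ ((el_mul' hm (hc _ (c7 x hx).2.1) (hc _ c12) (c7 x hx).2.2.2.2.2.1).trans
    (el_mul' hm (hc _ c12) (hc _ (c7 x hx).2.1) rfl).symm)) ((el_cube hm (hc _ (c7 x hx).2.1) (c7 x hx).2.2.2.2.2.2).trans h1)
  have iX := fun x hx => And.intro (hc _ (c7 x hx).1) (hc _ (c7 x hx).2.1)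
  simp only [rA, List.tail_cons, List.take, List.forall_mem_cons] at ht k7 k8 k9 iX c6
  obtain ⟨t1, t2, t3, t4, -⟩ := ht
  have e1 := el_mul' hm iX.1.2 iX.2.1.2 c8
  have e2 := el_mul' hm iX.2.1.2 iX.1.2 c9
  have e3 := el_mul' hm iX.1.2 iX.2.2.1.2 c10
  have k10 := nine k9.1.1 k9.2.1.1 (fun v _ => by rw [← End.mul_apply, ← End.mul_apply, ← map_mul, ← map_mul, e1, e2])
    (fun v _ => by rw [← cube_apply, ← map_pow, k9.1.2, map_one, End.one_apply])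
    fun v _ => by rw [← cube_apply, ← map_pow, k9.2.1.2, map_one, End.one_apply]
  simp only [k8.1, k8.2.1, k8.2.2.1, k8.2.2.2.1] at k7
  rw [← map_mul, ← map_mul, e1, e3, k7.1.2, k7.2.1.2, k7.2.2.1.2, k7.2.2.2.1.2,
    dm_conj ρ (cj_spec hm iX.2.1.1 iX.1.1 (in_ev hm ho hL _) c6.1),
    dm_conj ρ (cj_spec hm iX.2.2.2.1.1 iX.2.2.1.1 (in_ev hm ho hL _) c6.2.1)] at k10
  have k11 : fd ρ _ = fd ρ _ := dm_conj ρ (cj_spec hm iX.2.2.1.2 (hR _ (by simp [rA])) (in_ev hm ho hL _) c6.2.2.1)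
  have k12 := D.f5 ((el_pow hm ho h1 (hc _ c12) _ c13).trans h1) (hn _ (hc _ c12) fun e =>
    absurd (congrArg Fin.val (congrFun e 6)) (by decide +kernel : dP 3578538956698128 (6 : Fin 13) ≠ (6 : Fin 13)))
  have ea : (C.el 2737957194972183 : Perm (Fin 13)) = c[0, 7, 5] * c[12, 9, 2] :=
    Equiv.ext fun i => Fin.ext ((congrArg Fin.val (congrFun (he _ (hR _ (by simp [rA]))) i)).trans
      (show dP _ i = _ by revert i; decide +kernel))
  have eb : (C.el 3548839255818273 : Perm (Fin 13)) = c[0, 1, 2] * c[3, 4, 5] * c[6, 7, 8] * c[9, 10, 11] :=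
    Equiv.ext fun i => Fin.ext ((congrArg Fin.val (congrFun (he _ (hR _ (by simp [rA]))) i)).trans
      (show dP _ i = _ by revert i; decide +kernel))
  have k13 := N.scott (gen_A13 ea eb)
  rw [D.f13 (g := C.el _ * C.el _) (Subtype.ext (by rw [Subgroup.coe_pow, Subgroup.coe_mul, ea, eb]; decide +kernel)) fun e =>
    absurd (congrArg Subtype.val e) (by rw [Subgroup.coe_mul, ea, eb]; decide +kernel)] at k13
  have k3 := D.d9 _ (by rw [show 9 = 3 * 3 from rfl, pow_mul, k2, t3.1])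
  have k4 := mt (D.one _ 3 (by norm_num) t3.1) t3.2
  have k5 := k7.1.1
  have k6 := k7.2.2.1.1
  rw [k11] at k6
  rw [k2] at k3
  simp [sum_range_succ, rA, h1, T_eq, t1.1, t2.1, t3.1, t4.1, k2, fd_one, -map_one] at k0 k1
  have := chkA_6
    _ k5 k12 (mt (D.one _ 3 (by norm_num) t1.1) t1.2) _ k6 k12 (mt (D.one _ 3 (by norm_num) t2.1) t2.2) _ k3 k4 _
    (by simpa using D.f3 t4.1 t4.2) (by dsimp only; omega)
  dsimp only [fd] at this k0 k1 k12
  clear c5 c6 c8 c9 c10 c11 c13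
  omega

end CL.E72
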