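/-
`E₇(2)` has no subgroups `G₂(3)`, `Ω₇(3)`.
-/
import Cfsg.Agent.KSG.E72.MatR
import Cfsg.Agent.CHEV.G2Seven

set_option autoImplicit false
set_option maxRecDepth 20000

namespace CL.E72
open Module Function Finset CL.E83 CL.AltE Matrix CL.Chev CL.Ree Cfsg Cfsg.Lie
open scoped commutatorElement

/-- generators -/
def l7a : List ℕ := [79229371606104930365376626689, 79239042865089020863623266309, 79229975921440785091361046529, 118843452727192502356028768257]

/-- more generators -/
def w7a : List (ℕ × List ℕ) := [(79229371606104930365376626689, [0]), (79239042865089020863623266309, [1]), (79229975921440785091361046529, [2]), (118843452727192502356028768257, [3]), (79228464893293475317638496257, [0, 2, 2, 0]), (19816712037429407528389738500, [1, 3, 3, 1]), (79228767050961402679020486657, [2, 0, 0, 2]), (39618916962717033410076885000, [3, 1, 1, 3]), (19807078702646415485130768388, [0, 2, 2, 0, 1, 3, 3, 1]), (4956595860997003868307996688, [3, 1, 1, 3, 2, 0, 0, 2]), (79230580402797336482879242241, [0, 2, 0, 2]),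 (158458742898614929998418673666, [1, 3, 1, 3])]

/-- more generators -/
def w7b : List (ℕ × List ℕ) := [(79229371606104930365376626689, [0]), (79239042865089020863623266309, [1]), (79229975921440785091361046529, [2]), (118843452727192502356028768257, [3]), (79228464893293475317638496257, [4]), (19816712037429407528389738500, [5]), (79228767050961402679020486657, [6]), (39618916962717033410076885000, [7]), (19807078702646415485130768388, [8]), (4956595860997003868307996688, [9]), (79230580402797336482879242241, [10]), (158458742898614929998418673666, [11]), (79306745072169555477703753729, [8, 2, 9]), (79384115144033271027473645569, [8, 2, 2, 9]), (79538856468496438032500588545, [5, 2, 7]), (79848341478245725507187441665, [7, 2, 5]), (80506016014086422813120462849, [9, 3, 8]), (81743974942549508588495241217, [9, 3, 3, 8]), (84181292176132951628142673921, [4, 3, 6]), (89132976775410729220961271809, [6, 3, 4]), (99036412094014661570471231489, [3, 3]), (79229673689985881435141111809, [2, 2]), (79229371532317954070538682369,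 [0, 0]), (79234207161811688264011153417, [1, 1]), (79229371753683386554714751009, [4, 1, 6]), (79229372048835795333695995921, [6, 1, 4]), (79229371458567006847605219457, [9, 1, 8]), (79229371458548992723969450049, [9, 1, 1, 8]), (79229371458530978875211579905, [5, 0, 7]), (79229371458530979974723207425, [7, 0, 5]), (79229371458530977775767062529, [8, 0, 9]), (79229371458530977775834170369, [8, 0, 0, 9])]

/-- more generators -/
def l7b : List ℕ := [79229371606104930365376626689, 79239042865089020863623266309, 79229975921440785091361046529, 118843452727192502356028768257, 79228464893293475317638496257, 19816712037429407528389738500, 79228767050961402679020486657, 39618916962717033410076885000, 19807078702646415485130768388, 4956595860997003868307996688, 79230580402797336482879242241, 158458742898614929998418673666, 79306745072169555477703753729, 79384115144033271027473645569, 79538856468496438032500588545, 79848341478245725507187441665, 80506016014086422813120462849, 81743974942549508588495241217, 84181292176132951628142673921,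 89132976775410729220961271809, 99036412094014661570471231489, 79229673689985881435141111809, 79229371532317954070538682369, 79234207161811688264011153417, 79229371753683386554714751009, 79229372048835795333695995921, 79229371458567006847605219457, 79229371458548992723969450049, 79229371458530978875211579905, 79229371458530979974723207425, 79229371458530977775767062529, 79229371458530977775834170369]

/-- the elements used -/
def w7c : List (ℕ × List ℕ) := [(79229371532317954070538682369, [22]), (79229371827488378897301050977, [1, 29, 22, 23]), (79229371458548992723969450049, [27]), (79229372122658800700423219345, [22, 25, 26, 31]), (79229372196409750122463044881, [0, 25, 29, 31]), (79229371458530977775834170369, [31]), (79229371606104930365376626689, [0]), (79229372196427763971204122193, [1, 0, 23, 26]), (79234207161829704311859386441, [23, 27, 29, 30]), (79229372048871826604624517521, [25, 26, 29, 31]), (79229371753701401503051359329, [24, 27]), (79229371753683386554714751009, [24]), (79229371532317956269629047041,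 [22, 29]), (79229372122622771628534726673, [22, 25])]

/-- the representatives -/
def r7 : List ℕ := [79229371458530977775699951617, 79229371532317954070538682369, 79229371827488378897301050977, 79229371458548992723969450049, 79229372122658800700423219345, 79229372196409750122463044881]

theorem chk7 : wds (mulR 7) 79229371458530977775699951617 l7a w7a = true ∧ wds (mulR 7) 79229371458530977775699951617 (w7a.map Prod.fst) w7b = true ∧
    wds (mulR 7) 79229371458530977775699951617 l7b w7c = true ∧ w7b.map Prod.fst = l7b ∧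
    ∀ a ∈ r7.tail, a ∈ w7c.map Prod.fst ∧ mulR 7 a (mulR 7 a a) = 79229371458530977775699951617 ∧ decF 7 a ≠ 1 := by decide +kernel

theorem chk7_0 : (∀ a ∈ [79229371458530977775834170369, 79229371606104930365376626689, 79229372196427763971204122193], a ∈ w7c.map Prod.fst) ∧ con3 (mulR 7) 79229371458530977775699951617 l7b r7 [79229371458530977775834170369, 79229371606104930365376626689, 79229372196427763971204122193]
    [(0, []), (2, [0, 5]), (2, [0, 7]), (1, [11]), (1, [1, 0]), (2, [1, 3]), (1, []), (2, [20, 23]), (1, [1, 0, 11]), (1, [9]), (2, [5, 22]), (2, [7, 0]), (1, [9, 15]), (1, [1, 22]), (2, [0, 1, 3]), (1, [28]), (2, [0, 20, 23]), (1, [1, 11, 0]), (1, [5, 6]), (2, [5]), (2, [7]), (1, [11, 28]), (1, [1]), (2, [1, 0, 3]), (1, [29]), (2, [4, 8, 20]), (1, [1, 11])] [1, 14, 12, 0, 0, 0] = true := by decide +kernel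

theorem chk7_1 : (∀ a ∈ [79229371458548992723969450049, 79234207161829704311859386441, 79229372048871826604624517521], a ∈ w7c.map Prod.fst) ∧ con3 (mulR 7) 79229371458530977775699951617 l7b r7 [79229371458548992723969450049, 79234207161829704311859386441, 79229372048871826604624517521]
    [(0, []), (4, [3, 7]), (4, [4, 8]), (4, [7, 4]), (4, [7, 22, 21]), (4, [7, 21, 22]), (4, [3, 9]), (4, [5, 1, 4, 0]), (4, [1, 20, 21]), (3, []), (4, [7, 1]), (4, [5, 0]), (4, [3, 7, 4]), (4, [5, 10, 21]), (4, [5, 6, 0]), (4, [9, 24]), (4, [7, 0, 2]), (4, [5, 21]), (3, [11]), (4, [7]), (4, [4, 8, 23]), (4, [4, 24, 19]), (4, [5, 1, 10, 21]), (4, [5, 1, 6, 0]), (4, [9]), (4, [5, 4, 0]), (4, [5, 1, 21])] [1, 0, 0, 2, 24, 0] = true := by decide +kernel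

theorem chk7_2 : (∀ a ∈ [79229371753701401503051359329, 79229371753683386554714751009], a ∈ w7c.map Prod.fst) ∧ con3 (mulR 7) 79229371458530977775699951617 l7b r7 [79229371753701401503051359329, 79229371753683386554714751009]
    [(0, []), (3, [7]), (3, [5]), (3, [3]), (3, [20]), (3, []), (3, [3, 11]), (3, [11]), (3, [3, 1])] [1, 0, 0, 8, 0, 0] = true := by decide +kernel

theorem chk7_3 : (∀ a ∈ [79229371458530977775834170369, 79229371532317956269629047041, 79229371458548992723969450049, 79229372122622771628534726673], a ∈ w7c.map Prod.fst) ∧ con3 (mulR 7) 79229371458530977775699951617 l7b r7 [79229371458530977775834170369, 79229371532317956269629047041, 79229371458548992723969450049, 79229372122622771628534726673]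
    [(0, []), (5, [3, 1]), (5, [23]), (3, []), (2, [0, 23]), (4, [11, 28]), (3, [11]), (4, [29]), (2, [0, 11, 23]), (2, [1, 0]), (5, []), (2, [11, 20]), (4, [23]), (4, [1, 11, 0]), (2, [7, 3]), (5, [3, 22]), (2, [0, 11]), (2, [1, 3]), (2, [1, 11]), (2, [0, 20]), (5, [11, 0]), (5, [0, 1]), (2, [0, 20, 23]), (2, [22]), (4, [10, 1, 3]), (2, [0, 5, 3]), (4, [1]), (1, [9]), (5, [3, 1, 28]), (5, [22, 23]), (5, [6, 19]), (2, [22, 23]), (4, [11]), (5, [1, 3, 4]), (4, []), (2, [3, 1, 10]), (2, [1]), (5, [22]), (2, [0, 10, 3]), (4, [23, 22]), (4, [1, 11]), (2, [0, 7, 3]), (5, [0, 3]), (2, [3, 10]), (2, [0, 1, 3]), (2, [0, 1, 11]), (2, [20, 22]), (5, [0, 11]), (5, [1]), (2, [4, 8, 20]), (2, []), (4, [11, 23, 22]), (2, [1, 3, 10]), (4, [1, 0]), (1, [5, 6]), (5, [0, 3, 1]), (5, [0, 23]), (5, [4, 18]), (2, [23]), (4, [11, 29]), (5, [9, 18]), (4, [28]), (2, [11, 23]), (2, [0, 1]), (5, [0]), (2, [10, 3]), (4, [23, 0]), (4, [1, 0, 11]), (2, [7, 0, 3]), (5, [3]), (2, [11]), (2, [1, 0, 3]), (2, [1, 0, 11]), (2, [20]), (5, [11]),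 (5, [1, 0]), (2, [20, 23]), (2, [0]), (4, [11, 23]), (2, [5, 3]), (4, [1, 22])] [1, 2, 36, 2, 18, 22] = true := by decide +kernel

theorem no7 {Q : Type*} [Group Q] {f : Q →* Matrix (Fin 7) (Fin 7) (ZMod 3)} (hf : Injective f)
    (hL : ∀ a ∈ l7a, ∃ q, f q = decF 7 a) {ρ : Q →* End F2 V56} (D : Dat ρ) : False := by
  obtain ⟨c1, c2, c3, c4, c5⟩ := chk7
  obtain ⟨ho, h1⟩ := codM_one hf (decF_mul 7) (o := 79229371458530977775699951617) (by decide +kernel)
  have hm := codM_mul hf (decF_mul 7)
  have hb := c4 ▸ wds_spec hm ho (wds_spec hm ho hL c1) c2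
  have hc := wds_spec hm ho hb c3
  have hR : ∀ a ∈ r7, (codM hf (decF_mul 7)).In a := List.forall_mem_cons.2 ⟨ho, fun a ha => hc a (c5 a ha).1⟩
  have ht : ∀ a ∈ r7.tail, T ⊤ (ρ ((codM hf (decF_mul 7)).el a)) ∈ L3 := fun a ha =>
    D.t3' ((el_cube hm (hc a (c5 a ha).1) (c5 a ha).2.1).trans h1) (codM_ne _ _ (hc a (c5 a ha).1) (c5 a ha).2.2)
  have k0 := con3_spec hm ho h1 hb ρ hR (fun a ha => hc a (chk7_0.1 a ha)) chk7_0.2
  have k1 := con3_spec hm ho h1 hb ρ hR (fun a ha => hc a (chk7_1.1 a ha)) chk7_1.2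
  have k2 := con3_spec hm ho h1 hb ρ hR (fun a ha => hc a (chk7_2.1 a ha)) chk7_2.2
  have k3 := con3_spec hm ho h1 hb ρ hR (fun a ha => hc a (chk7_3.1 a ha)) chk7_3.2
  simp only [r7, List.tail_cons, List.forall_mem_cons] at ht
  obtain ⟨t1, t2, t3, t4, t5, -⟩ := ht
  simp [sum_range_succ, r7, h1, T_one, -map_one] at k0 k1 k2 k3
  have := (by decide +kernel : ∀ a ∈ L3, ∀ b ∈ L3, ∀ c ∈ L3, ∀ d ∈ L3, ∀ e ∈ L3,
    (112 + 14 * a + 12 * b < 0 ∨ (112 + 14 * a + 12 * b) % 54 ≠ 0) ∨ (112 + 2 * c + 24 * d < 0 ∨
    (112 + 2 * c + 24 * d) % 54 ≠ 0) ∨ (112 + 8 * c < 0 ∨ (112 + 8 * c) % 18 ≠ 0) ∨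
    (112 + 2 * a + 36 * b + 2 * c + 18 * d + 22 * e) % 162 ≠ 0 ∨ 112 + 2 * a + 36 * b + 2 * c + 18 * d + 22 * e < 0)
    _ t1 _ t2 _ t3 _ t4 _ t5
  omega

theorem noG23 {ρ : chevG2.group (ZMod 3) →* End F2 V56} (D : Dat ρ) : False := by
  refine no7 rho7_injective ?_ D
  simp only [l7a, List.forall_mem_cons]
  exact ⟨⟨_, (x7_6 1).trans (by decide +kernel)⟩, ⟨_, (x7_7 1).trans (by decide +kernel)⟩,
    ⟨_, (x7_5 1).trans (by decide +kernel)⟩, ⟨_, (x7_4 1).trans (by decide +kernel)⟩, by simp⟩

/-- the indices -/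
def e7o : Unit ⊕ (Fin 3 ⊕ Fin 3) ≃ Fin 7 :=
  ⟨Sum.elim (fun _ => 3) (Sum.elim ![0, 1, 2] ![6, 5, 4]),
    ![.inr (.inl 0), .inr (.inl 1), .inr (.inl 2), .inl (), .inr (.inr 2), .inr (.inr 1), .inr (.inr 0)],
    by decide, by decide⟩

/-- the representation -/
def f7o : isometryGroup (ZMod 3) (quadFormOdd 3 (ZMod 3)) →* Matrix (Fin 7) (Fin 7) (ZMod 3) :=
  (reindexAlgEquiv (ZMod 3) (ZMod 3) e7o).toRingEquiv.toMonoidHom.comp ((Units.coeHom _).comp (Subgroup.subtype _))

theorem f7o_injective : Injective f7o :=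
  (reindexAlgEquiv (ZMod 3) (ZMod 3) e7o).injective.comp (Units.val_injective.comp Subtype.val_injective)

theorem iso7 {a : ℕ} (h : mulR 7 (mulR 7 (trR 7 a) 19347536633801459737038848) a = 19347536633801459737038848) :
    ∃ q, f7o q = decF 7 a := by
  replace h := congrArg (decF 7) h
  rw [decF_mul, decF_mul, decF_tr] at h
  have hG : decF 7 19347536633801459737038848 * decF 7 19347536633801459737038848 = 1 := by decide +kernel
  have hQ : ∀ v, quadFormOdd 3 (ZMod 3) v = 2 * (v ∘ e7o.symm ⬝ᵥ decF 7 19347536633801459737038848 *ᵥ v ∘ e7o.symm) := fun v => by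
    rw [show decF 7 19347536633801459737038848 = !![0, 0, 0, 0, 0, 0, 1; 0, 0, 0, 0, 0, 1, 0; 0, 0, 0, 0, 1, 0, 0; 0, 0, 0, 2, 0, 0, 0;
      0, 0, 1, 0, 0, 0, 0; 0, 1, 0, 0, 0, 0, 0; 1, 0, 0, 0, 0, 0, 0] by decide +kernel]
    have h3 : (3 : ZMod 3) = 0 := rfl
    simp [quadFormOdd, e7o, Fin.sum_univ_succ, dotProduct, mulVec]
    linear_combination (-(v (.inl ()) ^ 2 + v (.inr (.inl 0)) * v (.inr (.inr 0)) + v (.inr (.inl 1)) * v (.inr (.inr 1)) +
      v (.inr (.inl 2)) * v (.inr (.inr 2)))) * h3
  generalize decF 7 19347536633801459737038848 = G at h hG hQ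
  generalize decF 7 a = A at h ⊢
  have hu : IsUnit (A.submatrix e7o e7o) := (isUnit_submatrix_equiv _ _).2
    ((isUnit_iff_isUnit_det _).2 (isUnit_det_of_left_inverse (B := G * (Aᵀ * G)) (by rw [Matrix.mul_assoc, h, hG])))
  refine ⟨⟨hu.unit, fun v _ => ?_⟩, by simp [f7o]⟩
  change quadFormOdd 3 _ (A.submatrix e7o e7o *ᵥ v) = quadFormOdd 3 _ v
  rw [hQ, hQ, submatrix_mulVec_equiv, comp_assoc, Equiv.self_comp_symm, comp_id, mulVec_mulVec, dotProduct_comm,
    dotProduct_mulVec, ← mulVec_transpose, mulVec_mulVec, ← Matrix.mul_assoc, h, dotProduct_comm]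

theorem noO73 {ρ : Omega (ZMod 3) (quadFormOdd 3 (ZMod 3)) →* End F2 V56} (D : Dat ρ) : False := by
  refine no7 (f := f7o.comp (Subgroup.subtype _)) (f7o_injective.comp Subtype.val_injective) (fun a ha => ?_) D
  obtain ⟨h, h1, h2, h3⟩ := (by decide +kernel : ∀ a ∈ l7a, ∃ h ∈ [79229371476977721853704470529, 79230580384350873879851433985],
    (∀ b ∈ [a, h], mulR 7 (mulR 7 (trR 7 b) 19347536633801459737038848) b = 19347536633801459737038848) ∧ mulR 7 a (mulR 7 a h) = mulR 7 h a) a ha
  obtain ⟨x, hx⟩ := iso7 (h2 a (by simp))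
  obtain ⟨y, hy⟩ := iso7 (h2 h (by simp))
  replace h3 := congrArg (decF 7) h3
  simp only [decF_mul, ← hx, ← hy, ← map_mul, f7o_injective.eq_iff] at h3
  exact ⟨⟨x, (show ⁅y, x⁆ = x by rw [commutatorElement_def, ← h3]; group) ▸
    Subgroup.commutator_mem_commutator (Subgroup.mem_top y) (Subgroup.mem_top x)⟩, hx⟩

end CL.E72
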