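/-
`J₂` fixes a vector.
-/
import Cfsg.Agent.KSG.E72.Tool
import Cfsg.Agent.PERM.J2

set_option autoImplicit false
set_option maxRecDepth 20000

namespace CL.E72
open Module Function Finset CL.E83 CL.AltE Module.End

theorem el_ev {G : Type*} [Group G] {C : Cod G} {m : ℕ → ℕ → ℕ} (hm : C.mul = m) {o : ℕ} (ho : C.In o) (h1 : C.el o = 1)
    {L : List ℕ} (hL : ∀ a ∈ L, C.In a) (w : List ℕ) : C.el (ev m o L w) = (w.map fun i => C.el (L.getD i o)).prod := by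
  induction w with
  | nil => exact h1
  | cons i w ih => exact (el_mul' hm (getD_ind ho hL i) (in_ev hm ho hL w) rfl).symm.trans (congrArg _ ih)

variable {G V : Type*} [Group G] [AddCommGroup V] [Module F2 V] [FiniteDimensional F2 V] (ρ : G →* End F2 V)

theorem ico {x z g h : G} (c : Commute x z) (h3 : x ^ 3 = 1) (h1 : h * x = x * (x * g)) (h2 : h * (x * x) = x * g ^ 4)
    (hx : x = g * (h * (g * (h * g)))) :
    dm ((ρ z).eigenspace 1 ⊓ (ρ g).eigenspace 1) ≤ dm ((ρ z).eigenspace 1 ⊓ (ρ x).eigenspace 1) := by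
  have := finrank_le_ker_add ((ρ z).eigenspace 1 ⊓ (ρ g).eigenspace 1) (1 + ρ x + ρ (x * x))
    (L := (ρ z).eigenspace 1 ⊓ (ρ x).eigenspace 1) fun v hv => ⟨add_mem (add_mem hv.1 (fx_stab ρ c v hv.1))
      (fx_stab ρ (c.mul_left c) v hv.1), mem_fx.2 (by
        simp only [LinearMap.add_apply, one_apply, map_add, ← mul_apply, ← map_mul, ← pow_three, h3, map_one]; abel)⟩
  rwa [show _ ⊓ LinearMap.ker _ = ⊥ from eq_bot_iff.2 fun v hv => ?_, finrank_bot, zero_add] at this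
  have e : v + ρ x v + ρ (x * x) v = 0 := hv.2
  have e1 := mem_fx.1 hv.1.2
  have e2 := congrArg (ρ h) e
  rw [map_add, map_add, ← mul_apply, ← mul_apply, ← map_mul, ← map_mul, h1, h2, ← mul_assoc, map_mul ρ _ g,
    map_mul ρ _ (g ^ 4), mul_apply, mul_apply, e1, mem_fx.1 (fx_pow ρ g 4 hv.1.2), map_zero, add_right_comm, ← e, add_left_inj,
    add_left_inj] at e2
  have e3 : ρ x v = v := by simp only [hx, map_mul, mul_apply, e1, e2]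
  rwa [map_mul, mul_apply, e3, e3, add_self2, zero_add] at e

theorem five5 {z g : G} (c : Commute z g) (hz : z ^ 5 = 1) (hg : g ^ 5 = 1) :
    dm ((ρ z).eigenspace 1) + ((List.range 4).map fun k => dm ((ρ (g * z ^ k)).eigenspace 1)).sum ≤
      finrank F2 V + 4 * dm ((ρ z).eigenspace 1 ⊓ (ρ g).eigenspace 1) := by
  have k1 : ∀ x y : G, x ^ 5 = 1 → Commute x y → ∀ v ∈ (ρ y).eigenspace 1,
      (∑ i ∈ range 5, ρ (x ^ i)) v ∈ (ρ x).eigenspace 1 ⊓ (ρ y).eigenspace 1 := fun x y hx hc v hv =>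
    ⟨mem_fx.2 (by
      rw [← mul_apply, mul_sum, sum_range_succ, sum_range_succ' fun i => ρ (x ^ i)]
      simp only [← map_mul, ← pow_succ', hx, pow_zero]), by
      rw [LinearMap.sum_apply]; exact sum_mem fun i _ => fx_stab ρ (hc.pow_left i) v hv⟩
  have k2 : ∀ x : G, ∀ v ∈ (ρ x).eigenspace 1, (∑ i ∈ range 5, ρ (x ^ i)) v = v := fun x v hv => by
    rw [LinearMap.sum_apply, sum_congr rfl fun i _ => mem_fx.1 (fx_pow ρ x i hv)]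
    simp only [sum_range_succ, range_zero, sum_empty, zero_add, add_self2]
  have k3 : ∀ k, (ρ z).eigenspace 1 ⊓ (ρ (g * z ^ k)).eigenspace 1 ≤ (ρ z).eigenspace 1 ⊓ (ρ g).eigenspace 1 :=
    fun k v hv => ⟨hv.1, mem_fx.2 (by
      rw [← mem_fx.1 (fx_pow ρ z k hv.1), ← mul_apply, ← map_mul, mem_fx.1 hv.2, mem_fx.1 (fx_pow ρ z k hv.1)])⟩
  have h := indep (C := (ρ z).eigenspace 1 ⊓ (ρ g).eigenspace 1)
    ((z :: (List.range 4).map fun k => g * z ^ k).map fun x => ((ρ x).eigenspace 1, ∑ i ∈ range 5, ρ (x ^ i)))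
    (List.forall_mem_map.2 (List.forall_mem_cons.2 ⟨⟨inf_le_left, k2 z⟩, List.forall_mem_map.2 fun k _ =>
      ⟨fun v hv => mem_fx.2 (by rw [map_mul, mul_apply, mem_fx.1 (fx_pow ρ z k hv.1), mem_fx.1 hv.2]), k2 _⟩⟩))
    (List.pairwise_map.2 (List.pairwise_cons.2 ⟨List.forall_mem_map.2 fun k _ v hv =>
      k3 k (k1 _ _ hz (c.mul_right (Commute.self_pow z k)) v hv), List.pairwise_map.2
      ((List.pairwise_lt_range (n := 4)).imp_of_mem fun {a b} _ hb hab v hv => ?_)⟩))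
  · generalize List.foldr _ _ _ = U at h
    have := U.finrank_le
    simp only [List.map_cons, List.map_map, List.sum_cons, List.length_cons, List.length_map, List.length_range,
      comp_def] at h
    simp only [dm] at h ⊢
    omega
  have h := k1 (g * z ^ a) _ (by rw [(c.symm.pow_right a).mul_pow, hg, ← pow_mul, mul_comm, pow_mul, hz, one_pow, one_mul])
    (((Commute.refl g).mul_right (c.symm.pow_right b)).mul_left ((c.pow_left a).mul_right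
      (Commute.pow_pow_self z a b))) v hv
  generalize (∑ i ∈ range 5, ρ ((g * z ^ a) ^ i)) v = u at h
  obtain ⟨d, rfl⟩ := Nat.exists_eq_add_of_lt hab
  have h1 : ρ (z ^ (d + 1)) u = u := rep_injective ρ (g * z ^ a) (by
    rw [← mul_apply, ← map_mul, mul_assoc, ← pow_add, ← add_assoc, mem_fx.1 h.1, mem_fx.1 h.2])
  have h2 := fx_pow ρ _ ((d + 1) ^ 3) (mem_fx.2 h1)
  rw [← pow_mul, ← pow_succ', pow_eq_pow_mod _ hz, show (d + 1) ^ (3 + 1) % 5 = 1 by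
    have := List.mem_range.1 hb
    obtain rfl | rfl | rfl : d = 0 ∨ d = 1 ∨ d = 2 := by omega
    all_goals rfl, pow_one] at h2
  exact k3 a ⟨h2, h.1⟩

/-- the elements used -/
noncomputable def lJ : List ℕ := [[1, 0, 1, 2, 3, 0, 1, 2, 3, 1, 2, 3, 1, 2, 3, 1], [0, 1, 3, 0], [2, 3, 2, 3, 0, 1, 2, 1, 3, 1], [3, 1, 2, 1, 3, 1, 0, 3, 2, 3, 0, 2, 1], [0, 3, 2, 1, 3, 2, 3, 2, 1, 3, 0, 2, 3, 0, 1], [0, 3, 0, 2, 1, 3, 2, 3, 1, 0, 3, 2, 3, 2, 1, 0, 3, 1, 2, 3], [0, 1, 3, 0, 2, 3, 1, 0, 3], [1, 2, 3, 0, 1, 2, 3, 2, 1, 0, 3, 2, 1, 3]].map (ev J2.mul J2.one J2.L)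

theorem chkJ_1 : ∀ p ∈ [([0, 0], []), ([1, 1, 1], []), ([2, 2, 2], []), ([3, 3, 3, 3, 3], []), ([4, 4, 4, 4, 4], []),
    ([0, 1, 0, 1, 0, 1], [3]), ([0, 1, 0, 1, 0, 1, 0, 1, 0, 1], [2]), ([3, 4], [4, 3]), ([5, 2], [2, 2, 4]),
    ([5, 2, 2], [2, 4, 4, 4, 4]), ([2], [4, 5, 4, 5, 4])], ev J2.mul J2.one lJ p.1 = ev J2.mul J2.one lJ p.2 := by
  decide +kernel

theorem chkJ_2 : ∀ w ∈ [[1], [3], [4], [4, 3], [4, 3, 3], [4, 3, 3, 3]], ev J2.mul J2.one lJ w ≠ J2.one := by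
  decide +kernel

theorem chkJ_3 : con3 J2.mul J2.one J2.L ([8, 2, 1].map (lJ.getD · J2.one)) ([2, 6, 7].map (lJ.getD · J2.one))
    [(0, []), (2, [2, 3, 0, 1, 2, 3, 0, 2, 1, 3, 1, 2, 1]), (2, [2, 3, 0, 1, 2, 1, 3, 2, 1, 3, 1, 0, 1]), (2, [3, 1, 0, 1, 2, 3, 0]), (2, [0, 2, 3, 0, 2, 3, 0, 1, 0, 1, 3, 1]), (2, [1, 0, 2, 3, 2, 3, 0, 1, 3, 2, 1, 0]), (2, [3, 2, 1, 0, 1, 3, 0]), (2, [1, 0, 2, 3, 2, 3, 0, 1, 3, 2, 1, 0, 3]), (2, [0, 2, 3, 0, 2, 3, 0, 1, 0, 3, 1]), (1, []), (2, [2, 3, 2, 1, 3, 2, 3, 0, 2, 1, 3, 1]), (2, [2, 3, 2, 1, 3, 2, 3, 0, 2, 3, 1]), (2, [2, 3, 2, 3, 1, 0, 1, 2, 3, 0, 1, 2]), (2, [0, 2, 3, 2, 3, 1, 0, 3, 1, 2, 3, 1, 0]), (2, [2, 1, 0, 3, 0, 2, 1, 3, 0, 1, 3, 2, 3]), (2, [2, 3, 2, 3, 1, 2, 3, 2, 3, 1, 0, 2]), (2, [2, 1, 0, 3, 0, 2, 1, 3, 0, 1, 3, 2]), (2, [0, 2, 3, 1, 0, 2, 3, 2, 3, 1, 0, 3, 2]), (1, []), (2, [2, 3, 2, 1, 3, 2, 3, 0, 2,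 3, 1]), (2, [2, 3, 2, 1, 3, 2, 3, 0, 2, 1, 3, 1]), (2, [2, 3, 2, 3, 1, 2, 3, 2, 3, 1, 0, 2]), (2, [3, 2, 3, 0, 2, 3, 2, 1, 0, 3, 1]), (2, [3, 1, 0, 2, 3, 1, 0, 3, 2, 1, 3, 0]), (2, [2, 3, 1, 2, 1, 0, 3, 2, 1, 3, 2, 1]), (2, [0, 2, 3, 0, 1, 2, 3, 2, 1, 3, 0, 2]), (2, [0, 2, 3, 2, 3, 1, 0, 1, 2, 3, 1, 0])] [1, 2, 24] = true := by
  decide +kernel

theorem chkJ_4 : [[1, 0, 1, 0, 1, 1, 0, 1, 1, 0, 1, 0, 1, 1, 0, 1, 0, 1, 0, 1, 0, 1, 1, 0, 1, 0, 1, 0, 1, 0, 1, 1, 0, 1, 0, 1, 0, 1, 0, 1, 1, 0, 1, 0, 1, 1, 0, 1, 1, 0, 1, 0, 1, 1, 0, 1, 1, 0, 1, 0, 1, 1, 0, 1], [1, 0, 1, 0, 1, 0, 1, 1, 0, 1, 0, 1, 0, 1, 0, 1, 1, 0, 1, 0, 1, 1, 0, 1, 0, 1, 0, 1, 1, 0, 1, 0, 1, 1, 0, 1, 1, 0, 1, 1], [1, 0, 1, 0, 1, 0, 1, 0, 1, 1, 0, 1, 1, 0, 1, 0, 1, 1, 0, 1, 1, 0, 1, 0, 1, 1, 0, 1, 1, 0, 1, 0, 1, 1, 0, 1, 0, 1, 0, 1, 1, 0, 1, 0, 1, 1, 0, 1, 1, 0, 1, 0, 1, 0, 1, 0, 1, 0, 1, 0],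 [1, 1, 0, 1, 0, 1, 0, 1, 1, 0, 1, 0, 1, 0, 1, 1, 0, 1, 0, 1, 0, 1, 0, 1, 1, 0, 1, 0, 1, 1, 0, 1, 1, 0, 1, 0, 1, 0, 1, 1, 0, 1, 0]].map (ev J2.mul J2.one (lJ.take 2)) = J2.L := by
  decide +kernel

theorem noJ2 {ρ : Cfsg.Spor.J2 →* End F2 V56} (D : Dat ρ) (N : NoFix ρ) : False := by
  have M := J2.model
  let C : Cod Cfsg.Spor.J2 := ⟨J2.mul, id, fun _ => false, CG.Mem J2.φ ⊤, CG.elt J2.φ, by simp,
    fun _ _ => M.C.mem_mul, fun _ _ => M.C.elt_mul⟩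
  have hm : C.mul = J2.mul := rfl
  have ho : C.In J2.one := M.C.mem_one ⊤
  have h1 : C.el J2.one = 1 := M.C.elt_one
  have hL : ∀ a ∈ lJ, C.In a := List.forall_mem_map.2 fun w _ => in_ev hm ho M.mem_L w
  have k1 := fun p hp => (el_ev hm ho h1 hL _).symm.trans ((congrArg C.el (chkJ_1 p hp)).trans (el_ev hm ho h1 hL _))
  have k2 := fun w hw => mt (fun e => CG.elt_inj (in_ev hm ho hL w) ho ((el_ev hm ho h1 hL w).trans (Eq.trans e h1.symm)))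
    (chkJ_2 w hw)
  have k3 := con3_spec hm ho h1 M.mem_L ρ (List.forall_mem_map.2 fun i _ => getD_ind ho hL i)
    (List.forall_mem_map.2 fun i _ => getD_ind ho hL i) chkJ_3
  have k4 : Subgroup.closure {C.el (lJ.getD 0 J2.one), C.el (lJ.getD 1 J2.one)} = ⊤ :=
    eq_top_iff.2 (M.gen_L.ge.trans ((M.C.gen_le_iff M.mem_L).2 (chkJ_4 ▸ List.forall_mem_map.2 fun w _ => show C.el _ ∈ _ from
      (el_ev hm ho h1 (fun a ha => hL a (List.mem_of_mem_take ha)) w).symm ▸ Subgroup.list_prod_mem _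
        (List.forall_mem_map.2 fun i _ => getD_ind (P := fun a => C.el a ∈ _) (h1 ▸ one_mem _)
          (List.forall_mem_cons.2 ⟨Subgroup.subset_closure (.inl rfl), List.forall_mem_singleton.2
            (Subgroup.subset_closure (.inr rfl))⟩) i))))
  simp only [List.forall_mem_cons, List.map_cons, List.map_nil, List.prod_cons, List.prod_nil, mul_one, sum_range_succ,
    range_zero, sum_empty, List.length_cons, List.length_nil, List.getD_cons_succ, List.getD_cons_zero,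
    show lJ.getD 8 J2.one = J2.one from rfl, h1, T_one] at k1 k2 k3
  generalize C.el (lJ.getD 0 J2.one) = a, C.el (lJ.getD 1 J2.one) = b, C.el (lJ.getD 2 J2.one) = x,
    C.el (lJ.getD 3 J2.one) = z, C.el (lJ.getD 4 J2.one) = g, C.el (lJ.getD 5 J2.one) = h at *
  obtain ⟨a2, b3, x3, z5, g5, y3, y5, c, r1, r2, r3, -⟩ := k1
  obtain ⟨nb, nz, n0, n1, n2, n3, -⟩ := k2
  replace b3 : b ^ 3 = 1 := (pow_three b).trans b3
  replace x3 : x ^ 3 = 1 := (pow_three x).trans x3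
  replace z5 : z ^ 5 = 1 := by simpa only [pow_succ', pow_zero, mul_one] using z5
  replace g5 : g ^ 5 = 1 := by simpa only [pow_succ', pow_zero, mul_one] using g5
  replace y3 : (a * b) ^ 3 = z := by simpa only [pow_succ', pow_zero, mul_one, mul_assoc] using y3
  replace y5 : (a * b) ^ 5 = x := by simpa only [pow_succ', pow_zero, mul_one, mul_assoc] using y5
  have y15 : (a * b) ^ 15 = 1 := by rw [show 15 = 3 * 5 from rfl, pow_mul, y3, z5]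
  have k5 := five5 ρ c z5 g5
  have k6 : ∀ k ∈ List.range 4, dm ((ρ (g * z ^ k)).eigenspace 1) = 16 := fun k hk => D.f5 (by
    rw [(Commute.pow_right c.symm k).mul_pow, g5, ← pow_mul, mul_comm k, pow_mul, z5, one_pow, one_mul]) (by
    revert k; simp [List.range_succ, pow_succ', n0, n1, n2, n3])
  have k7 := ico ρ (y5 ▸ y3 ▸ Commute.pow_pow_self (a * b) 5 3) x3 r1
    (by simpa only [pow_succ', pow_zero, mul_one] using r2) r3
  have k8 := D.d15 _ y15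
  have k9 := N.scott k4
  have k10 := f2 ρ ((sq a).trans a2)
  have k12 := D.f3 b3 nb
  have k13 : dm _ = 16 := D.f5 z5 nz
  rw [List.map_congr_left k6, finrank_fin_fun, k13] at k5
  rw [← y3, ← y5, fx15 ρ y15, y3] at k7
  rw [T_eq ρ b, b3, fd_one, T_eq, x3, fd_one] at k3
  rw [y5, y3, fd, fd, fd, k13] at k8
  simp [L15, fd, -map_mul] at k5 k8 k9 k10 k12 k3
  omega

end CL.E72
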