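/-
More on fixed spaces in characteristic two.
-/
import Cfsg.Agent.KSG.E72.J2

set_option autoImplicit false

namespace CL.E72
open Module Function Finset CL.E83 CL.AltE Module.End

variable {G V : Type*} [Group G] [AddCommGroup V] [Module F2 V] [FiniteDimensional F2 V] (ρ : G →* End F2 V)

theorem five6 {w z g : G} (cz : Commute z w) (cg : Commute g w) (c : Commute z g) (hz : z ^ 5 = 1) (hg : g ^ 5 = 1) :
    dm ((ρ z).eigenspace 1 ⊓ (ρ w).eigenspace 1) +
      ((List.range 5).map fun k => dm ((ρ (g * z ^ k)).eigenspace 1 ⊓ (ρ w).eigenspace 1)).sum =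
      dm ((ρ w).eigenspace 1) + 5 * dm ((ρ z).eigenspace 1 ⊓ (ρ g).eigenspace 1 ⊓ (ρ w).eigenspace 1) := by
  have k0 : ∀ x y : G, Commute x y → ∀ v ∈ (ρ y).eigenspace 1, (∑ i ∈ range 5, ρ (x ^ i)) v ∈ (ρ y).eigenspace 1 :=
    fun x y hc v hv => by rw [LinearMap.sum_apply]; exact sum_mem fun i _ => fx_stab ρ (hc.pow_left i) v hv
  have k1 : ∀ x : G, x ^ 5 = 1 → ∀ v, (∑ i ∈ range 5, ρ (x ^ i)) v ∈ (ρ x).eigenspace 1 := fun x hx v => mem_fx.2 (by
    rw [← mul_apply, mul_sum, sum_range_succ, sum_range_succ' fun i => ρ (x ^ i)]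
    simp only [← map_mul, ← pow_succ', hx, pow_zero])
  have k2 : ∀ x : G, ∀ v ∈ (ρ x).eigenspace 1 ⊓ (ρ w).eigenspace 1, (∑ i ∈ range 5, ρ (x ^ i)) v = v := fun x v hv => by
    rw [LinearMap.sum_apply, sum_congr rfl fun i _ => mem_fx.1 (fx_pow ρ x i hv.1)]
    simp only [sum_range_succ, range_zero, sum_empty, zero_add, add_self2]
  have k3 : ∀ k, ∀ v ∈ (ρ z).eigenspace 1, v ∈ (ρ (g * z ^ k)).eigenspace 1 →
      v ∈ (ρ z).eigenspace 1 ⊓ (ρ g).eigenspace 1 := fun k v hv h => ⟨hv, mem_fx.2 (by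
    rw [← mem_fx.1 (fx_pow ρ z k hv), ← mul_apply, ← map_mul, mem_fx.1 h, mem_fx.1 (fx_pow ρ z k hv)])⟩
  have k4 : ∀ a, (g * z ^ a) ^ 5 = 1 := fun a => by
    rw [(c.symm.pow_right a).mul_pow, hg, ← pow_mul, mul_comm, pow_mul, hz, one_pow, one_mul]
  have k5 : ∀ a, Commute (g * z ^ a) w := fun a => cg.mul_left (cz.pow_left a)
  have h := indep (C := (ρ z).eigenspace 1 ⊓ (ρ g).eigenspace 1 ⊓ (ρ w).eigenspace 1)
    ((z :: (List.range 5).map fun k => g * z ^ k).map fun x =>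
      ((ρ x).eigenspace 1 ⊓ (ρ w).eigenspace 1, ∑ i ∈ range 5, ρ (x ^ i)))
    (List.forall_mem_map.2 (List.forall_mem_cons.2 ⟨⟨inf_le_inf_right _ inf_le_left, k2 z⟩, List.forall_mem_map.2 fun k _ =>
      ⟨fun v hv => ⟨mem_fx.2 (by rw [map_mul, mul_apply, mem_fx.1 (fx_pow ρ z k hv.1.1), mem_fx.1 hv.1.2]), hv.2⟩, k2 _⟩⟩))
    (List.pairwise_map.2 (List.pairwise_cons.2 ⟨List.forall_mem_map.2 fun k _ v hv =>
      ⟨k3 k _ (k1 _ hz v) (k0 _ _ (c.mul_right (Commute.self_pow z k)) v hv.1), k0 _ _ cz v hv.2⟩, List.pairwise_map.2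
      ((List.pairwise_lt_range (n := 5)).imp_of_mem fun {a b} _ hb hab v hv => ⟨?_, k0 _ _ (k5 a) v hv.2⟩)⟩))
  · rw [show List.foldr _ _ _ = (ρ w).eigenspace 1 from le_antisymm (by simp [List.range_succ]) fun v hv => ?_] at h
    · simp only [List.map_cons, List.map_map, List.sum_cons, List.length_cons, List.length_map, List.length_range,
        comp_def] at h
      omega
    have e : v + ((∑ i ∈ range 5, ρ (g ^ i)) ((∑ i ∈ range 5, ρ (z ^ i)) v) + v + v +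
        ((∑ i ∈ range 5, ρ (g ^ i)) ((∑ i ∈ range 5, ρ (z ^ i)) v) + v + v)) = (∑ i ∈ range 5, ρ (z ^ i)) v +
        ((∑ i ∈ range 5, ρ ((g * z ^ 0) ^ i)) v + ((∑ i ∈ range 5, ρ ((g * z ^ 1) ^ i)) v +
        ((∑ i ∈ range 5, ρ ((g * z ^ 2) ^ i)) v + ((∑ i ∈ range 5, ρ ((g * z ^ 3) ^ i)) v +
        ((∑ i ∈ range 5, ρ ((g * z ^ 4) ^ i)) v + (∑ i ∈ range 5, ρ (g ^ i)) ((∑ i ∈ range 5, ρ (z ^ i)) v)))))) := by
      simp only [sum_range_succ, range_zero, sum_empty, zero_add, (c.symm.pow_right _).mul_pow, ← pow_mul, Nat.reduceMul,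
        pow_eq_pow_mod 6 hz, pow_eq_pow_mod 8 hz, pow_eq_pow_mod 9 hz, pow_eq_pow_mod 12 hz, pow_eq_pow_mod 16 hz,
        Nat.reduceMod, map_mul, LinearMap.add_apply, mul_apply, map_add, pow_zero, map_one, one_apply, mul_zero, zero_mul,
        mul_one, one_mul]
      abel
    rw [add_self2, add_zero] at e
    rw [e]
    refine Submodule.add_mem_sup ⟨k1 _ hz v, k0 _ _ cz v hv⟩ ?_
    iterate 5 refine Submodule.add_mem_sup ⟨k1 _ (k4 _) v, k0 _ _ (k5 _) v hv⟩ ?_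
    exact ⟨⟨k0 _ _ c.symm _ (k1 _ hz v), k1 _ hg _⟩, k0 _ _ cg _ (k0 _ _ cz v hv)⟩
  have h := And.intro (k1 _ (k4 a) v) (k0 _ _ (((Commute.refl g).mul_right (c.symm.pow_right b)).mul_left
    ((c.pow_left a).mul_right (Commute.pow_pow_self z a b))) v hv.1)
  generalize (∑ i ∈ range 5, ρ ((g * z ^ a) ^ i)) v = u at h
  obtain ⟨d, rfl⟩ := Nat.exists_eq_add_of_lt hab
  have h1 : ρ (z ^ (d + 1)) u = u := rep_injective ρ (g * z ^ a) (by
    rw [← mul_apply, ← map_mul, mul_assoc, ← pow_add, ← add_assoc, mem_fx.1 h.1, mem_fx.1 h.2])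
  have h2 := fx_pow ρ _ ((d + 1) ^ 3) (mem_fx.2 h1)
  rw [← pow_mul, ← pow_succ', pow_eq_pow_mod _ hz, show (d + 1) ^ (3 + 1) % 5 = 1 by
    have := List.mem_range.1 hb
    obtain rfl | rfl | rfl | rfl : d = 0 ∨ d = 1 ∨ d = 2 ∨ d = 3 := by omega
    all_goals rfl, pow_one] at h2
  exact k3 a _ h2 h.1

theorem dm_le_conj {x c t s : G} {m : ℕ} (h1 : s * c = c * t ^ m) (h2 : Commute c x) :
    dm ((ρ t).eigenspace 1 ⊓ (ρ x).eigenspace 1) ≤ dm ((ρ s).eigenspace 1 ⊓ (ρ x).eigenspace 1) := by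
  have := finrank_le_ker_add ((ρ t).eigenspace 1 ⊓ (ρ x).eigenspace 1) (ρ c)
    (L := (ρ s).eigenspace 1 ⊓ (ρ x).eigenspace 1) fun v hv => ⟨mem_fx.2 (by
      rw [← mul_apply, ← map_mul, h1, map_mul, mul_apply, mem_fx.1 (fx_pow ρ t m hv.1)]), fx_stab ρ h2 v hv.2⟩
  rwa [LinearMap.ker_eq_bot.2 (rep_injective ρ c), inf_bot_eq, finrank_bot, zero_add] at this

theorem ico2 {x y g h : G} (c : Commute g x) (g5 : g ^ 5 = 1) (h1 : h * y = y * (y * g)) (h2 : h * (y * y) = y * g ^ 4)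
    (e : dm ((ρ x).eigenspace 1) ≤ dm ((ρ x).eigenspace 1 ⊓ (ρ y).eigenspace 1)) :
    (ρ g).eigenspace 1 ⊓ (ρ x).eigenspace 1 = (ρ x).eigenspace 1 := inf_eq_right.2 fun v hv => by
  have k := fun v hv => mem_fx.1 (inf_eq_left.1 (Submodule.eq_of_le_of_finrank_le inf_le_left e) (x := v) hv)
  have e1 := congrArg (ρ · v) h1
  have e2 := congrArg (ρ · v) h2
  simp only [map_mul, mul_apply, k v hv, k _ (fx_stab ρ c v hv), k _ (fx_stab ρ (c.pow_left 4) v hv)] at e1 e2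
  have := fx_pow ρ (g ^ 3) 2 (mem_fx.2 (rep_injective ρ g (by rw [← mul_apply, ← map_mul, ← pow_succ', ← e2, e1])))
  rwa [← pow_mul, show 3 * 2 = 5 + 1 from rfl, pow_succ, g5, one_mul] at this

theorem f4 (ρ : G →* End F2 V56) {g : G} (h : g ^ 4 = 1) : 14 ≤ fd ρ g := by
  have h1 := f2 ρ (g := g * g) (by rw [← sq, ← pow_mul, h])
  have := finrank_le_ker_add ((ρ (g * g)).eigenspace 1) (1 - ρ g) (L := (ρ g).eigenspace 1) fun v hv => mem_fx.2 (by
    rw [LinearMap.sub_apply, one_apply, map_sub, ← mul_apply, ← map_mul, mem_fx.1 hv, sub_eq_sub_iff_add_eq_add,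
      add_self2, add_self2])
  have h2 := dm_mono (inf_le_right (a := (ρ (g * g)).eigenspace 1) (b := (ρ g).eigenspace 1))
  rw [← eig_one] at this
  simp only [fd, dm] at *
  omega

theorem Dat.d35 {ρ : G →* End F2 V56} (D : Dat ρ) {x t : G} (c : Commute t x) (h3 : x ^ 3 = 1) (h5 : t ^ 5 = 1)
    (h : t ≠ 1) : (dm ((ρ t).eigenspace 1 ⊓ (ρ x).eigenspace 1), fd ρ x, 16) ∈ L15 := by
  have e3 : (t ^ 2 * x ^ 2) ^ 3 = t := by
    rw [(c.pow_pow 2 2).mul_pow, ← pow_mul, ← pow_mul, pow_eq_pow_mod _ h5, pow_eq_pow_mod _ h3]; simp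
  have e5 : (t ^ 2 * x ^ 2) ^ 5 = x := by
    rw [(c.pow_pow 2 2).mul_pow, ← pow_mul, ← pow_mul, pow_eq_pow_mod _ h5, pow_eq_pow_mod _ h3]; simp
  have e : (t ^ 2 * x ^ 2) ^ 15 = 1 := by rw [show 15 = 3 * 5 from rfl, pow_mul, e3, h5]
  have := D.d15 _ e
  rwa [fd, ← fx15 ρ e, e3, e5, D.f5 h5 h] at this

theorem Dat.d55 {ρ : G →* End F2 V56} (D : Dat ρ) {z g : G} (c : Commute z g) (hz : z ^ 5 = 1) (hg : g ^ 5 = 1)
    (h : z ≠ 1) (h' : ∀ k ∈ List.range 5, g * z ^ k ≠ 1) : dm ((ρ z).eigenspace 1 ⊓ (ρ g).eigenspace 1) = 8 := by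
  have := five6 ρ (Commute.one_right z) (Commute.one_right g) c hz hg
  have e : (ρ 1).eigenspace 1 = ⊤ := eq_top_iff.2 fun v _ => mem_fx.2 (by simp)
  simp only [e, inf_top_eq] at this
  rw [List.map_congr_left (f := fun k => dm ((ρ (g * z ^ k)).eigenspace 1)) (g := fun _ => 16) fun k hk => D.f5 (g := g * z ^ k) (by
    rw [(c.symm.pow_right k).mul_pow, hg, ← pow_mul, mul_comm, pow_mul, hz, one_pow, one_mul]) (h' k hk), show dm _ = 16 from D.f5 hz h,
    show dm (⊤ : Submodule F2 V56) = 56 from (finrank_top _ _).trans (finrank_fin_fun _)] at this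
  simp at this
  omega

theorem nofix_act12 {G A : Type*} [Group G] [Finite G] [AddCommGroup A] [DistribMulAction G A] [Finite A]
    (hA : Nat.card A = 2 ^ 56) (h2 : ∀ v : A, v + v = 0) {g : G} (hg : g ^ 127 = 1) (h0 : ∀ v : A, g • v = v → v = 0)
    {H : Subgroup G} (hH : IsCoatom H) (X : Subgroup H) [X.Normal]
    (h : X.index ∣ 12 ∧ 2 ^ 112 * Nat.card H < Nat.card G) {u : A} (hu : ∀ x ∈ X, x • u = u) : u = 0 := by
  classical
  open MulAction in
  by_contra hu0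
  have := Fact.mk Nat.prime_two
  obtain ⟨P⟩ : Nonempty (Sylow 2 H) := inferInstance
  obtain ⟨⟨v, hv⟩, h3, h4⟩ := P.isPGroup'.exists_fixed_point_of_prime_dvd_card_of_fixed_point (fixedPoints X A)
    (by simpa using (CL.Chev.pow_dvd_card_of_iterate (α := fixedPoints X A) (fun v => ⟨v.1 + u, fun x => by
      rw [smul_add, v.2 x]; exact congrArg _ (hu x x.2)⟩) Nat.prime_two (N := 1) (j := 0)
      (fun v => Subtype.ext (by simp [add_assoc, h2])) fun v e => hu0 (by simpa using congrArg Subtype.val e)))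
    (a := ⟨0, fun x => smul_zero x⟩) fun x => Subtype.ext (smul_zero x)
  have h5 : (stabilizer H v).index ∣ X.index := Subgroup.index_dvd_of_le fun x hx => hv ⟨x, hx⟩
  have h6 : ¬ 2 ∣ (stabilizer H v).index := fun e => P.not_dvd_index (e.trans
    (Subgroup.index_dvd_of_le fun x hx => congrArg Subtype.val (h3 ⟨x, hx⟩)))
  refine h4 (Subtype.ext (nofix_act hA h2 hg h0 hH (stabilizer H v).normalCore (.inr ⟨?_, h.2⟩)
    fun x hx => Subgroup.normalCore_le _ hx).symm)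
  have h7 : (stabilizer H v).normalCore.index ∣ (stabilizer H v).index.factorial := by
    rw [Subgroup.normalCore_eq_ker, Subgroup.index_ker, Subgroup.index, ← Nat.card_perm]
    exact Subgroup.card_subgroup_dvd_card _
  have := h5.trans h.1
  generalize (stabilizer H v).index = j at *
  have := Nat.le_of_dvd (by norm_num) this
  refine h7.trans ?_
  interval_cases j <;> first | omega | decide

theorem nofix12 {G : Type*} [Group G] [Finite G] (ρ : G →* End F2 V) (hV : finrank F2 V = 56) {g : G} (hg : g ^ 127 = 1)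
    (h0 : (ρ g).eigenspace 1 = ⊥) {H : Subgroup G} (hH : IsCoatom H) (X : Subgroup H) [X.Normal]
    (h : X.index ∣ 12 ∧ 2 ^ 112 * Nat.card H < Nat.card G) : NoFix (ρ.comp (H.subtype.comp X.subtype)) := by
  have := Module.finite_of_finite F2 (M := V)
  have := Module.finite_of_finite F2 (M := Dual F2 V)
  constructor
  · let _ := DistribMulAction.compHom V ρ
    exact fun v hv => nofix_act12 (by rw [Module.natCard_eq_pow_finrank (K := F2), Nat.card_zmod, hV]) add_self2 hg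
      (fun v hv => h0.le (mem_fx.2 hv)) hH X h fun x hx => hv ⟨x, hx⟩
  · let _ := DistribMulAction.compHom (Dual F2 V) (Representation.dual ρ)
    refine fun φ hφ => nofix_act12 (by
      rw [Module.natCard_eq_pow_finrank (K := F2), Nat.card_zmod, Subspace.dual_finrank_eq, hV]) add_self2 hg
      (fun φ hφ => LinearMap.ext fun v => ?_) hH X h fun x hx => LinearMap.ext (hφ ⟨x, hx⟩⁻¹)
    obtain ⟨v, rfl⟩ := LinearMap.injective_iff_surjective.1 (LinearMap.ker_eq_bot.1 (eig_one (ρ g) ▸ h0)) v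
    have : φ (ρ g⁻¹ (ρ g v)) = φ (ρ g v) := LinearMap.congr_fun hφ _
    rw [← mul_apply, ← map_mul, inv_mul_cancel, map_one] at this
    simp [← this]

theorem nofix_fstar12 {G : Type*} [Group G] [Finite G] (hG : Nat.card G = 7997476042075799759100487262680802918400)
    (ρ : G →* End F2 V56) {g : G} (a : g ^ 127 = 1) (b : (ρ g).eigenspace 1 = ⊥) {H : Subgroup G} (hH : IsCoatom H)
    {n m : ℕ} (h : AutDat (Cfsg.generalizedFittingSubgroup H) n m) (hm : m ∣ 12 * n ∧ m < 2 ^ 20) :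
    NoFix (ρ.comp (H.subtype.comp (Cfsg.generalizedFittingSubgroup H).subtype)) := by
  have h1 := card_dvd_aut h
  have h2 := (Cfsg.generalizedFittingSubgroup H).index_mul_card
  have h0 : 0 < Nat.card (Cfsg.generalizedFittingSubgroup H) := Nat.card_pos
  rw [h.2.1] at h0 h2
  have h4 := h1.trans hm.1
  have h3 := Nat.le_of_dvd (Nat.pos_of_dvd_of_pos hm.1 (by omega)) h1
  refine nofix12 ρ (finrank_fin_fun _) a b hH _ ⟨Nat.dvd_of_mul_dvd_mul_right h0 (by rwa [h2]), ?_⟩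
  have h5 := hm.2
  rw [hG]
  norm_num at h5 ⊢
  omega

theorem exists_rep12 {Y : Type*} [Group Y] {H : Subgroup G7} (hH : IsCoatom H)
    (e : Cfsg.generalizedFittingSubgroup H ≃* Y) : ∃ ρ : Y →* End F2 V56, Dat ρ ∧ ∀ n m, AutDat Y n m →
      m ∣ 12 * n ∧ m < 2 ^ 20 → NoFix ρ := by
  obtain ⟨ρ, D, g, a, b⟩ := exists_dat
  exact ⟨_, (D.comp (j := H.subtype.comp (Subgroup.subtype _))
    (H.subtype_injective.comp (Subgroup.subtype_injective _))).comp (j := e.symm.toMonoidHom) e.symm.injective,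
    fun n m h hm => (nofix_fstar12 card_G7 ρ a b hH (h.of_equiv e) hm).comp e.symm.surjective⟩

end CL.E72
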