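/-
Coded matrix groups in characteristic two.
-/
import Cfsg.Agent.KSG.E72.Lin2
import Cfsg.Agent.PERM.F4Code

set_option autoImplicit false
set_option maxRecDepth 20000

namespace CL.E72
open Function CL.E83 CL.K CL.PM CL.CG Matrix

/-- the product -/
noncomputable abbrev mul2 : ℕ → ℕ → ℕ := mulC 2 12 4 48 0xf00000000000f00000000000f00000000000f00000000000f00000000000f00000000000f00000000000f00000000000f00000000000f00000000000f00000000000f 0xffffffffffff 1 1 0x777777777777777777777777777777777777777777777777777777777777777777777777777777777777777777777777777777777777777777777777777777777777777777777777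

/-- the unit -/
def one2 : ℕ := 0x100000000000010000000000001000000000000100000000000010000000000001000000000000100000000000010000000000001000000000000100000000000010000000000001

theorem ok2 : OK 2 12 4 15 48 0xf00000000000f00000000000f00000000000f00000000000f00000000000f00000000000f00000000000f00000000000f00000000000f00000000000f00000000000f 0xffffffffffff 1 1 0x777777777777777777777777777777777777777777777777777777777777777777777777777777777777777777777777777777777777777777777777777777777777777777777777 12 := ok_of_okB (by decide +kernel)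

variable {G X : Type*} [Group G] [Group X] {f : G →* Matrix (Fin 12) (Fin 12) (ZMod 2)} (hf : Injective f)

include hf in
theorem isCode2 : IsCode (fun g => code 4 (f g)) mul2 one2 :=
  (by decide +kernel : oneC 12 4 = one2) ▸ isCode_rep ok2 _ hf

include hf in
theorem exists_cod (π : G →* X) (hk : ∀ g, π g = 1 → g ∈ Subgroup.center G) : ∃ C : Cod X, C.mul = mul2 ∧ C.In one2 ∧
    C.el one2 = 1 ∧ C.In = Mem (fun g => code 4 (f g)) ⊤ ∧ (∀ g, C.el (code 4 (f g)) = π g) ∧
    (∀ E : List ℕ, (∀ a ∈ E, C.In a) → ∀ N : List (List ℕ × ℕ), (∀ p ∈ N, mul2 (E.getD p.2 one2) (ev mul2 one2 E p.1) ≠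
      mul2 (ev mul2 one2 E p.1) (E.getD p.2 one2)) → ∀ p ∈ N, (p.1.map fun i => C.el (E.getD i one2)).prod ≠ 1) ∧
    ∀ a b, C.In a → C.In b → Surjective π → Finite G → Nat.card G ≤ Nat.card (gen (fun g => code 4 (f g)) [a, b]) →
      Subgroup.closure {C.el a, C.el b} = ⊤ := by
  have I := isCode2 hf
  let C : Cod X := ⟨mul2, id, fun _ => false, Mem (fun g => code 4 (f g)) ⊤, fun c => π (elt (fun g => code 4 (f g)) c),
    by simp, fun _ _ => I.mem_mul, fun _ _ ha hb => by rw [I.elt_mul ha hb, map_mul]⟩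
  have h1 : C.el one2 = 1 := (congrArg π I.elt_one).trans (map_one π)
  refine ⟨C, rfl, I.mem_one ⊤, h1, rfl, fun g => congrArg π (I.elt_code g), fun E hE N h p hp e => h p hp ?_, ?_⟩
  · have a1 := in_ev (C := C) rfl (I.mem_one ⊤) hE p.1
    have a2 := getD_ind (P := C.In) (I.mem_one ⊤) hE p.2
    exact I.mul_eq_of_elt a2 a1 a1 a2
      (Subgroup.mem_center_iff.1 (hk _ ((el_ev (C := C) rfl (I.mem_one ⊤) h1 hE p.1).trans e)) _)
  rintro _ _ ⟨a, -, rfl⟩ ⟨b, -, rfl⟩ hs _ h
  have e := (I.gen_eq_closure [a, b]).symm.trans (Subgroup.eq_top_of_le_card _ h)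
  rw [show {g | g ∈ [a, b]} = ({a, b} : Set G) by ext; simp] at e
  show Subgroup.closure {π _, π _} = ⊤
  rw [I.elt_code, I.elt_code, ← Set.image_pair, ← MonoidHom.map_closure, e, Subgroup.map_top_of_surjective _ hs]

theorem rel_spec {C : Cod X} {m : ℕ → ℕ → ℕ} (hm : C.mul = m) {o : ℕ} (ho : C.In o) (h1 : C.el o = 1) {E : List ℕ}
    (hE : ∀ a ∈ E, C.In a) {R : List (List ℕ × List ℕ)} (h : ∀ p ∈ R, ev m o E p.1 = ev m o E p.2) :
    ∀ p ∈ R, (p.1.map fun i => C.el (E.getD i o)).prod = (p.2.map fun i => C.el (E.getD i o)).prod := fun p hp =>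
  (el_ev hm ho h1 hE _).symm.trans ((congrArg C.el (h p hp)).trans (el_ev hm ho h1 hE _))

/-- four by four matrices -/
abbrev M4 := Matrix (Fin 4) (Fin 4) (ZMod 2)

/-- the determinant -/
def det3 (C : M4) (K : Matrix (Fin 3) (Fin 3) ℕ) : M4 :=
  pw C (K 0 0) * pw C (K 1 1) * pw C (K 2 2) - pw C (K 0 0) * pw C (K 1 2) * pw C (K 2 1) -
    pw C (K 0 1) * pw C (K 1 0) * pw C (K 2 2) + pw C (K 0 1) * pw C (K 1 2) * pw C (K 2 0) +
    pw C (K 0 2) * pw C (K 1 0) * pw C (K 2 1) - pw C (K 0 2) * pw C (K 1 1) * pw C (K 2 0)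

variable {F : Type*} [Field F] (e : F →+* M4)

/-- the representation over the prime field -/
def fSL : SpecialLinearGroup (Fin 3) F →* Matrix (Fin 12) (Fin 12) (ZMod 2) :=
  (blk e 3).toMonoidHom.comp SpecialLinearGroup.coeMonoidHom

theorem fSL_injective : Injective (fSL e) := (blk_injective e 3).comp Subtype.val_injective

theorem mem_SL3 {ω : F} {C : M4} (h : e ω = C) {K : Matrix (Fin 3) (Fin 3) ℕ} {c : ℕ}
    (hK : det3 C K = 1 ∧ code 4 (unblk 3 4 (ZMod 2) (pm C K)) = c) : ∃ hd, code 4 (fSL e ⟨pm ω K, hd⟩) = c := by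
  subst h
  exact ⟨det_pm_three e hK.1, (congrArg (code 4) (blk_pm e ω K)).trans hK.2⟩

theorem pm_center {ω : F} {k : ℕ} {x : SpecialLinearGroup (Fin 3) F} (h : x.1 = pm ω !![k, 0, 0; 0, k, 0; 0, 0, k]) :
    x ∈ Subgroup.center (SpecialLinearGroup (Fin 3) F) := Subgroup.mem_center_iff.2 fun g => Subtype.ext (by
  show g.1 * x.1 = x.1 * g.1
  rw [h, show pm ω !![k, 0, 0; 0, k, 0; 0, 0, k] =
    scalar _ (pw ω k) by ext i j; fin_cases i <;> fin_cases j <;> simp [pm, pw]]
  exact (scalar_commute _ (fun _ => Commute.all _ _) _).symm)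

/-- a primitive element of the field with sixteen elements -/
def c16 : M4 := !![0, 0, 0, 1; 1, 0, 0, 1; 0, 1, 0, 0; 0, 0, 1, 0]

theorem exists_e16 [Fintype F] (h : Fintype.card F = 16) : ∃ (e : F →+* M4) (ω : F), e ω = c16 :=
  exists_ringHom_of_zech c16 (N := 15) h ((orderOf_eq_iff (by norm_num)).2 (by decide +kernel)) (by decide +kernel)
    (by decide +kernel)

/-- a primitive element of the field with four elements -/
def c4 : M4 := !![0, 0, 1, 1; 1, 0, 1, 0; 1, 1, 0, 1; 0, 1, 1, 0]

theorem exists_e4 [Fintype F] (h : Fintype.card F = 4) : ∃ (e : F →+* M4) (ω : F), e ω = c4 :=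
  exists_ringHom_of_zech c4 (N := 3) h ((orderOf_eq_iff (by norm_num)).2 (by decide +kernel)) (by decide +kernel)
    (by decide +kernel)

end CL.E72
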