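/-
`E₇(2)` has no subgroup `G₂(4)`.
-/
import Cfsg.Agent.KSG.E72.Q2
import Cfsg.Agent.CHEV.Rep2
import Cfsg.Agent.CHEV.Aut

set_option autoImplicit false
set_option maxRecDepth 20000
set_option exponentiation.threshold 2000

namespace CL.E72
open Module Function Finset CL.E83 CL.AltE CL.K CL.PM CL.CG Matrix Cfsg

/-- generators -/
def lG : List ℕ := [0x100000001000010000000100001000000010000100000001000010000000000001000000000000100000000000010000000000001000000000000100000000000010000000000001,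
  0x100000001100010000001000001000000011000100000010000010000000000001000000000000100000000000010000000000001000000000000100000000000010000000000001,
  0x100000000000010000000000001000000000000100000000000010000000000001000000000000100000000000010000100000001000010000000100001000000010000100000001,
  0x100000000000010000000000001010000000000101000000000010000000000001000000000000101000000000010100000000001000000000000100000000000010000000000001,
  0x100000000000010000000000001000000000000100000000001010000000000101000000000000100000000000010000000000101000000000010100000000000010000000000001,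
  0x100000000000010000000000101000000000010100000000000010000000000001000000000010100000000001010000000000001000000000000100000000001010000000000101,
  0x100000000000010000000000111000000000100100000000000010000000000001000000000001100000000011010000000000001000000000000100000000001110000000001001,
  0x101000000000010100000000001000000000000100000000000010100000000001010000000000100000000000010000000000001010000000000101000000000010000000000001]

theorem chkG_1 : ([(0, .l), (0, .w), (11, .l), (5, .l), (6, .l), (7, .l), (7, .w), (4, .l)] : List (Fin 12 × F4)).map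
    (fun x => code 4 (blk e4 6 (Rep2.mat 6 (Rep2.g2Tab x.1) x.2))) = lG := by decide +kernel

/-- the elements used -/
noncomputable def lG' : List ℕ := [[7, 5, 6, 7, 6, 7], [0, 2], [0, 1, 3, 2, 4, 1, 3], [5, 6, 7], [6, 7, 6], [1, 2, 0], [2, 1, 2]].map (ev mul2 one2 lG)

theorem chkG_2 : (∀ p ∈ [(List.replicate 3 0, []), (List.replicate 3 1, []), (List.replicate 5 3, []),
    (List.replicate 5 5, []), ([5, 3], [3, 5]), ([5, 0], [0, 5]), ([1, 0], [0, 1]), ([4, 0], [0, 0, 3]),
    ([4, 0, 0], [0] ++ List.replicate 4 3), ([0], [3, 4, 3, 4, 3]), ([6, 1], [1, 1, 5]),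
    ([6, 1, 1], [1] ++ List.replicate 4 5), ([1], [5, 6, 5, 6, 5])], ev mul2 one2 lG' p.1 = ev mul2 one2 lG' p.2) ∧
    ∀ p ∈ ([5], 1) :: ([0], 3) :: ([1], 5) :: (List.range 5).map fun k => ([3] ++ List.replicate k 5, 0),
    mul2 (lG'.getD p.2 one2) (ev mul2 one2 lG' p.1) ≠ mul2 (ev mul2 one2 lG' p.1) (lG'.getD p.2 one2) := by decide +kernel

theorem chkG_3 : con3 mul2 one2 lG ([7, 0, 1].map (lG'.getD · one2)) ([0, 1, 2].map (lG'.getD · one2))
    [(0, []), (2, [1, 3, 4, 0, 4]), (2, [1, 4, 0, 4, 3]), (2, []), (2, [1, 4, 0, 1, 2, 4, 3, 2, 1, 2, 3]), (2, [1, 4, 1, 3, 2, 3, 4, 1, 2, 3]), (2, []), (2, [1, 4, 1, 3, 2, 3, 4, 1, 2, 0, 3]), (2, [4, 1, 2, 4, 3, 2, 1, 2, 0, 3, 4]), (1, []), (2, [1, 3, 2, 0, 4, 0]), (2, [1, 3, 2, 0, 4]), (2, [1, 3, 2, 4, 0, 1, 3]), (2, [4, 1, 2, 4, 3, 2, 1, 2, 0, 3, 4]), (2, [3, 2, 1, 2, 3, 2, 4, 1, 4, 3]), (2, [1, 3, 2, 4, 1, 3]), (2, [3, 2, 1, 2, 3, 2, 4, 1, 4, 3]), (2, [3, 4, 0, 1, 3, 2, 3, 4, 1, 2, 3]), (1, []), (2, [1, 3, 2, 0, 4]),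 (2, [1, 3, 4, 0, 2, 4]), (2, [1, 3, 2, 4, 1, 3]), (2, [3, 2, 1, 4, 3, 2, 0, 1, 3, 4, 3]), (2, [1, 4, 1, 3, 2, 3, 4, 1, 2, 0, 3]), (2, [1, 3, 2, 4, 0, 1, 3]), (2, [1, 4, 1, 3, 2, 3, 4, 1, 2, 3]), (2, [3, 2, 1, 2, 3, 2, 1, 4, 0, 1, 4])] [1, 2, 24] = true ∧
    con3 mul2 one2 lG ([7, 0, 1].map (lG'.getD · one2)) ([0, 1].map (lG'.getD · one2))
    [(0, []), (2, []), (2, []), (1, []), (2, [1, 3, 2, 4, 0, 1, 3]), (2, [1, 3, 2, 4, 1, 3]), (1, []), (2, [1, 3, 2, 4, 1, 3]), (2, [1, 3, 2, 4, 0, 1, 3])] [1, 2, 6] = true := by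
  decide +kernel

theorem noG24' {ρ : Lie.chevG2.group F4 →* End F2 V56} (D : Dat ρ) : False := by
  have := charP_F4
  obtain ⟨f, hf, hx⟩ := Rep2.exists_rep_g2 (F := F4) ⟨.w, by decide, by decide⟩
  obtain ⟨C, hm, ho, h1, hI, -, h3, -⟩ := exists_cod (rep4_injective hf) (MonoidHom.id _)
    fun g (e : g = 1) => e ▸ one_mem _
  have hL : ∀ a ∈ lG, C.In a := chkG_1 ▸ List.forall_mem_map.2 fun x _ =>
    hI ▸ ⟨_, trivial, congrArg (fun A => code 4 (blk e4 6 A)) (hx x.1 x.2)⟩
  have hE : ∀ a ∈ lG', C.In a := List.forall_mem_map.2 fun w _ => in_ev hm ho hL w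
  have k1 := rel_spec hm ho h1 hE chkG_2.1
  have k2 := h3 _ hE _ chkG_2.2
  have k3 := con3_spec hm ho h1 hL ρ (List.forall_mem_map.2 fun i _ => getD_ind ho hE i)
    (List.forall_mem_map.2 fun i _ => getD_ind ho hE i) chkG_3.1
  have k4 := con3_spec hm ho h1 hL ρ (List.forall_mem_map.2 fun i _ => getD_ind ho hE i)
    (List.forall_mem_map.2 fun i _ => getD_ind ho hE i) chkG_3.2
  simp only [List.forall_mem_cons, List.map_cons, List.map_nil, List.prod_cons, List.prod_nil, mul_one, List.map_replicate,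
    List.prod_replicate, List.map_append, List.prod_append, List.forall_mem_map, sum_range_succ, range_zero, sum_empty, List.length_cons,
    List.length_nil, List.getD_cons_succ, List.getD_cons_zero, show lG'.getD 7 one2 = one2 from rfl, h1, T_one, fixL,
    top_inf_eq] at k1 k2 k3 k4
  generalize C.el (lG'.getD 0 one2) = x, C.el (lG'.getD 1 one2) = y, C.el (lG'.getD 3 one2) = g,
    C.el (lG'.getD 4 one2) = h, C.el (lG'.getD 5 one2) = g', C.el (lG'.getD 6 one2) = h' at k1 k2 k3 k4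
  obtain ⟨x3, y3, g5, g5', c1, c2, c3, r1, r2, r3, s1, s2, s3, -⟩ := k1
  obtain ⟨n1, n2, n3, n4⟩ := k2
  have k5 := D.d55 c1 g5' g5 n1 n4
  have k6 := ico ρ (Commute.symm c2) x3 r1 r2 r3
  have k7 := ico ρ c3 y3 s1 s2 s3
  have k8 := D.d35 c2 x3 g5' n1
  have k9 := fun e => congrArg dm (ico2 ρ c2 g5' s1 s2 e)
  have k10 := D.f3 y3 n3
  have k11 := D.f3 x3 n2
  rw [inf_comm] at k7
  rw [T_eq, T_eq, x3, y3, fd_one] at k3 k4
  simp [L15, fd] at k3 k4 k8 k9 k10 k11
  omega

theorem noG24 {F : Type*} [Field F] [Fintype F] (h : Fintype.card F = 4) {ρ : Lie.chevG2.group F →* End F2 V56}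
    (D : Dat ρ) : False :=
  noG24' (D.comp (j := (Chev.fieldAut _ (FiniteField.ringEquivOfCardEq (F4.card_eq.trans h.symm))).toMonoidHom)
    (MulEquiv.injective _))

end CL.E72
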