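/-
`E₇(2)` has no subgroup `G₂(8)`.
-/
import Cfsg.Agent.KSG.E72.MatR
import Cfsg.Agent.CHEV.SsInv

set_option autoImplicit false
set_option maxRecDepth 20000
set_option backward.isDefEq.respectTransparency false

namespace CL.E72
open Module Function Finset CL.E83 CL.AltE CL.Chev Cfsg.Lie
open Matrix hiding zpow_add zpow_mul zpow_sub one_zpow

theorem tor8 {F : Type*} [Field F] [Fintype F] (h : Fintype.card F = 8) : ∃ e : ℕ → ℕ → chevG2.group F,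
    (∀ i j k l, e ((i + k) % 9) ((j + l) % 9) = e i j * e k l) ∧ e 0 0 = 1 ∧ e 3 0 ≠ 1 ∧ e 0 3 ≠ 1 ∧
    ∀ i j, IsConj (e i j) (e ((8 * i + j) % 9) j) ∧ IsConj (e i j) (e i ((3 * i + 8 * j) % 9)) := by
  obtain ⟨φ, σ, ψ, A, h1, h2, -⟩ := exists_alg (F := F) (D := chevG2) (by simp) card_ker_G2
  rw [h] at A
  have : CharP F 2 := charP_of_card_eq_prime_pow (f := 3) h
  have h0 : ((9 : ℕ) : AlgebraicClosure F) ≠ 0 := by rw [Ne, CharP.cast_eq_zero_iff _ 2]; norm_num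
  have := NeZero.mk h0
  obtain ⟨z, hz⟩ := HasEnoughRootsOfUnity.exists_primitiveRoot (AlgebraicClosure F) 9
  obtain ⟨z, rfl⟩ := hz.isUnit (by norm_num)
  have ho := (IsPrimitiveRoot.coe_units_iff.1 hz).eq_orderOf.symm
  obtain ⟨y, hy⟩ := A.exists_conj_fixed_iff (word_mem_W (D := chevG2) ([0, 1, 0, 1, 0, 1] : List (Fin 2)))
  have k : ∀ a b : Fin chevG2.rank → ℤ, (∀ i, a i ≡ b i [ZMOD 9]) → (fun i => z ^ a i) = fun i => z ^ b i := fun a b h =>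
    funext fun i => zpow_eq_zpow_iff_modEq.2 (ho ▸ h i)
  have h3 : ∀ a : Fin chevG2.rank → ℤ, ∃ g, ψ g = y⁻¹ * A.r3.torHom (fun i => z ^ a i) * y := fun a => (h2 _).2 ((hy _).2 (by
    rw [RootSys.act_zpow_const, coM_word, show corM (D := chevG2) (piL ([0, 1, 0, 1, 0, 1] : List (Fin 2))) = -1 by
      decide +kernel]
    refine (k _ (fun i => a i * (8 : ℕ)) fun i => ?_).trans (funext fun i => by rw [zpow_mul, zpow_natCast]; rfl)
    rw [vecMul_neg, vecMul_one, Pi.neg_apply, Int.ModEq]; omega))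
  choose e he using h3
  have k1 : ∀ a b c : Fin chevG2.rank → ℤ, (∀ i, c i ≡ a i + b i [ZMOD 9]) → e c = e a * e b := fun a b c h => h1 (by
    rw [map_mul, he, he, he, k _ _ h, show (fun i => z ^ (a i + b i)) = (fun i => z ^ a i) * fun i => z ^ b i from
      funext fun i => zpow_add _ _ _, map_mul]; group)
  have k2 : ∀ a, e a = 1 ↔ ∀ i, (9 : ℤ) ∣ a i := fun a => by
    rw [← h1.eq_iff, he, map_one, ← inv_inv y, inv_inv y⁻¹, conj_eq_one_iff, ← map_one A.r3.torHom, A.sc.eq_iff, funext_iff]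
    exact forall_congr' fun i => by rw [Pi.one_apply, ← orderOf_dvd_iff_zpow_eq_one, ho]; rfl
  have k3 : ∀ (l : List (Fin 2)) a b, (∀ i, (a ᵥ* corM (D := chevG2) (piL l)) i ≡ b i [ZMOD 9]) → IsConj (e a) (e b) :=
    fun l a b h => A.isConj_of_isConj h1 h2 (fun e0 => h0 (by
      obtain ⟨c, hc⟩ := orderOf_dvd_of_pow_eq_one (x := e a) (n := 9) (h1 (by
        rw [map_pow, he, ← inv_inv y, inv_inv y⁻¹, conj_pow, ← map_pow, map_one, conj_eq_one_iff, ← map_one A.r3.torHom]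
        exact congrArg _ (funext fun i => by
          rw [Pi.pow_apply, ← zpow_natCast, ← zpow_mul, mul_comm, zpow_mul, zpow_natCast, ← ho, pow_orderOf_eq_one,
            one_zpow, Pi.one_apply])))
      rw [hc, Nat.cast_mul, e0, zero_mul])) (by
        obtain ⟨m, -, hm⟩ := (stS chevG2 (AlgebraicClosure F)).exists_acts (word_mem_W (D := chevG2) l)
        refine isConj_iff.2 ⟨y⁻¹ * m * y, ?_⟩
        rw [he, he, ← k _ _ h, ← coM_word, ← RootSys.act_zpow_const, ← A.r3.conj_torHom hm]; group)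
  refine ⟨fun i j => e (![i, j] : Fin 2 → ℤ), fun i j k l => k1 _ _ _ ?_, (k2 _).2 (by decide), mt (k2 _).1 (by decide),
    mt (k2 _).1 (by decide), fun i j => ⟨k3 [0] _ _ ?_, k3 [1] _ _ ?_⟩⟩
  · exact Fin.forall_fin_two.2 (by simp [Int.ModEq])
  · rw [show corM (D := chevG2) (piL ([0] : List (Fin 2))) = !![-1, 0; 1, 1] by decide +kernel]
    refine Fin.forall_fin_two.2 ?_
    simp only [Int.ModEq, vecMul, dotProduct]
    erw [Fin.sum_univ_two, Fin.sum_univ_two]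
    simp; omega
  · rw [show corM (D := chevG2) (piL ([1] : List (Fin 2))) = !![1, 3; 0, -1] by decide +kernel]
    refine Fin.forall_fin_two.2 ?_
    simp only [Int.ModEq, vecMul, dotProduct]
    erw [Fin.sum_univ_two, Fin.sum_univ_two]
    simp; omega

theorem fx_sq {G V : Type*} [Group G] [AddCommGroup V] [Module F2 V] (ρ : G →* End F2 V) {g : G} (h : g ^ 9 = 1) :
    (ρ (g * g)).eigenspace 1 = (ρ g).eigenspace 1 := by
  have k : ∀ (g : G) (n : ℕ), (ρ g).eigenspace 1 ≤ (ρ (g ^ n)).eigenspace 1 := fun g n v hv => mem_fx.2 (by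
    rw [map_pow, eig_pow (Module.End.mem_eigenspace_iff.1 hv), one_pow, one_smul])
  refine le_antisymm ?_ (sq g ▸ k g 2)
  have := k (g * g) 5
  rwa [← sq, ← pow_mul, show 2 * 5 = 9 + 1 from rfl, pow_succ g 9, h, one_mul, sq] at this

/-- the product -/
def m81 (a b : ℕ) : ℕ := (a % 9 + b % 9) % 9 + 9 * ((a / 9 + b / 9) % 9)

/-- maps preserving the classes -/
def s81 (k a : ℕ) : ℕ := bif Nat.beq k 0 then (8 * (a % 9) + a / 9) % 9 + 9 * (a / 9) else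
  bif Nat.beq k 1 then a % 9 + 9 * ((3 * (a % 9) + 8 * (a / 9)) % 9) else m81 a a

/-- the classes -/
def d81 : List (ℕ × List ℕ) := [(0, []), (1, []), (1, [2]), (2, []), (1, [2, 2]), (1, [2, 2, 0]), (2, [0]), (1, [2, 0]), (1, [0]), (3, []), (3, [0]), (4, []), (4, [2, 0, 1, 0]), (4, [2, 1]), (3, [2, 2, 1, 0, 1]), (4, [2, 0, 1]), (4, [2, 1, 0]), (4, [0]), (3, [2]), (3, [1, 0]), (3, [2, 0]), (4, [2, 2, 0, 1]), (4, [2]), (4, [2, 2, 1, 0]), (4, [2, 2, 0, 1, 0]), (4, [2, 0]), (4, [2, 2, 1]), (5, []), (1, [1]), (1, [0, 1]), (5, [0]), (1, [2, 2, 1]), (1, [2, 0, 1, 0]), (5, [2, 1, 0]), (1, [2, 1, 0]), (1, [2, 2, 0, 1]), (3, [2, 2]), (4, [0, 1, 0, 1]), (3, [2, 1, 0]), (4, [1, 0, 1]), (3, [2, 2, 0]), (4, [2, 2, 0]), (4, [1, 0, 1, 0]), (4, [2, 2, 2, 1]), (4, [2, 2]), (3, [2, 2, 1]), (4, [2, 2, 2, 2, 2]), (4, [1]), (4, [0, 1]), (4, [2, 2, 2, 2, 2, 0]), (3, [2, 2, 0, 1]), (4, [0, 1, 0]),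 (3, [2, 1, 0, 1]), (4, [1, 0]), (5, [1]), (1, [2, 2, 0, 1, 0]), (1, [2, 1]), (5, [1, 0]), (1, [2, 0, 1]), (1, [2, 2, 1, 0]), (5, [2, 0]), (1, [0, 1, 0]), (1, [1, 0]), (3, [2, 1]), (4, [2, 2, 2, 2, 2, 1]), (4, [2, 2, 2, 2, 0]), (4, [2, 2, 1, 0, 1]), (4, [2, 2, 0, 1, 0, 1]), (4, [2, 2, 2, 2]), (4, [2, 2, 1, 0, 1, 0]), (3, [2, 0, 1]), (3, [1, 0, 1]), (3, [1]), (4, [2, 2, 2, 0]), (4, [2, 0, 1, 0, 1]), (4, [2, 1, 0, 1, 0]), (3, [2, 2, 1, 0]), (4, [2, 2, 2, 2, 1]), (4, [2, 1, 0, 1]), (4, [2, 2, 2]), (3, [0, 1])]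

/-- the class of an element -/
def c81 (a : ℕ) : ℕ := (d81.getD a (0, [])).1

theorem chk81 : ∀ a < 81, (d81.getD a (0, [])).2.foldr s81 ([0, 1, 3, 9, 11, 27].getD (c81 a) 0) = a := by decide +kernel

theorem chk81' : cen3 m81 [0] [3, 27, 1, 9] = true ∧ cen3 m81 [0] [3, 27, 1] = true ∧ cen3 m81 [0] [27, 3, 9] = true ∧
    ∀ x ∈ [([3, 27, 1, 9], [1, 18, 2, 18, 36, 6]), ([3, 27, 1], [1, 18, 2, 0, 0, 6]), ([27, 3, 9], [1, 0, 2, 6, 12, 6])],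
      (∀ a ∈ prods3 m81 [0] x.1, a < 81 ∧ c81 a < 6) ∧ ∀ j < 6, ((prods3 m81 [0] x.1).map c81).count j = x.2.getD j 0 := by
  decide +kernel

theorem no81 {G : Type*} [Group G] {ρ : G →* End F2 V56} (D : Dat ρ) {e : ℕ → ℕ → G}
    (h1 : ∀ i j k l, e ((i + k) % 9) ((j + l) % 9) = e i j * e k l) (h2 : e 0 0 = 1) (h3 : e 3 0 ≠ 1) (h4 : e 0 3 ≠ 1)
    (h5 : ∀ i j, IsConj (e i j) (e ((8 * i + j) % 9) j) ∧ IsConj (e i j) (e i ((3 * i + 8 * j) % 9))) : False := by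
  have k0 : ∀ i j, (i % 9 + 9 * j) % 9 = i % 9 ∧ (i % 9 + 9 * j) / 9 = j := fun i j => by omega
  let C : Cod G := ⟨m81, id, fun _ => true, fun _ => True, fun a => e (a % 9) (a / 9), fun _ _ => trivial,
    fun _ _ _ _ => trivial, fun a b _ _ => by rw [m81, (k0 _ _).1, (k0 _ _).2, h1]⟩
  have k1 : ∀ a b, C.el (m81 a b) = C.el a * C.el b := fun a b => C.el_mul a b trivial trivial
  have k2 : ∀ i j n, e i j ^ (n + 1) = e (i * (n + 1) % 9) (j * (n + 1) % 9) := fun i j n => by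
    induction n with
    | zero => rw [zero_add, pow_one, mul_one, mul_one, ← add_zero i, ← add_zero j, h1, h2, mul_one, add_zero, add_zero]
    | succ n ih => rw [pow_succ, ih, ← h1, Nat.mod_add_mod, Nat.mod_add_mod, ← mul_add_one, ← mul_add_one]
  have k3 : ∀ i j, e i j ^ 9 = 1 := fun i j => by rw [k2, Nat.mul_mod_left, Nat.mul_mod_left, h2]
  have k4 : ∀ k a, T ⊤ (ρ (C.el (s81 k a))) = T ⊤ (ρ (C.el a)) := fun k a => by
    rw [s81]
    cases Nat.beq k 0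
    · cases Nat.beq k 1
      · rw [cond_false, cond_false, k1, T, T, ← map_pow, ← map_pow, ← sq, ← pow_mul, mul_comm 2, pow_mul, sq, sq,
          fx_sq ρ (k3 _ _), fx_sq ρ (by rw [← pow_mul, mul_comm, pow_mul, k3, one_pow])]
      · exact T_conj ρ (by simpa only [C, cond_false, cond_true, k0] using (h5 _ _).2.symm)
    · exact T_conj ρ (by simpa only [C, cond_true, k0] using (h5 _ _).1.symm)
  have k5 : ∀ a < 81, T ⊤ (ρ (C.el a)) = T ⊤ (ρ (C.el ([0, 1, 3, 9, 11, 27].getD (c81 a) 0))) := fun a ha => by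
    conv_lhs => rw [← chk81 a ha]
    induction (d81.getD a (0, [])).2 with
    | nil => rfl
    | cons k w ih => rw [List.foldr_cons, k4, ih]
  have k6 : ∀ l f, cen3 m81 [0] l = true → ((∀ a ∈ prods3 m81 [0] l, a < 81 ∧ c81 a < 6) ∧
      ∀ j < 6, ((prods3 m81 [0] l).map c81).count j = List.getD f j 0) →
      ∑ j ∈ range 6, f.getD j 0 * T ⊤ (ρ (C.el ([0, 1, 3, 9, 11, 27].getD j 0))) =
        2 * 3 ^ l.length * (dm (fixL ⊤ (l.map fun a => ρ (C.el a))) : ℤ) := fun l f a b => by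
    rw [← cen3_sum (C := C) rfl trivial h2 ρ (fun _ _ => trivial) a, List.map_congr_left fun a ha => k5 a (b.1 a ha).1,
      sum_congr rfl fun j hj => by rw [← b.2 j (mem_range.1 hj)], ← sum_count _ _ (by simpa using fun a ha => (b.1 a ha).2),
      List.map_map]; rfl
  have k7 : ∀ g h : G, Commute h g → h ^ 9 = 1 →
      2 ^ fd ρ g % 9 = 2 ^ dm (fixL ⊤ [ρ (g ^ 3), ρ (h ^ 3), ρ g]) % 9 := fun g h c h9 => by
    have := cong (W := (ρ g).eigenspace 1) (g := ρ h) (fun v hv => mem_fx.2 (by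
      rw [← End.mul_apply, ← map_mul, ← c.eq, map_mul, End.mul_apply, mem_fx.1 hv])) (N := 2) 1 Nat.prime_three
      (by rw [← map_pow, show 3 ^ 2 = 9 from rfl, h9, map_one])
    rwa [show fixL ⊤ [ρ (g ^ 3), ρ (h ^ 3), ρ g] = (ρ g).eigenspace 1 ⊓ (ρ h ^ 3 ^ 1).eigenspace 1 from
      Submodule.ext fun v => by
        simp only [mem_fixL, List.forall_mem_cons, Submodule.mem_inf, mem_fx, map_pow, cube_apply, pow_one]
        exact ⟨fun h => ⟨h.2.2.2.1, h.2.2.1⟩, fun h => ⟨trivial, by simp only [h.1], h.2, h.1, by simp⟩⟩]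
  obtain ⟨c1, c2, c3, c⟩ := chk81'
  simp only [List.forall_mem_cons] at c
  have a1 := k6 _ _ c1 c.1
  have a2 := k6 _ _ c2 c.2.1
  have a3 := k6 _ _ c3 c.2.2.1
  have b0 : Commute (e 0 1) (e 1 0) := (h1 0 1 1 0).symm.trans (h1 1 0 0 1)
  have b2 := k7 _ _ b0 (k3 _ _)
  have b3 := k7 _ _ b0.symm (k3 _ _)
  have d1 := D.d9 _ (k3 1 0)
  have d2 := D.d9 _ (k3 0 1)
  have d3 := D.d9 _ (k3 2 1)
  have d4 := mt (D.one _ 9 (by norm_num) (k3 3 0)) h3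
  have d5 := mt (D.one _ 9 (by norm_num) (k3 0 3)) h4
  have d6 : fd ρ (e 6 3) = fd ρ (e 0 3) := dm_conj ρ ((h5 6 3).2.trans ((h5 6 6).1.trans (h5 0 6).2))
  simp only [sum_range_succ, range_zero, sum_empty, List.getD_cons_succ, List.getD_cons_zero, T_eq, C, k2, List.map,
    List.length, Nat.reduceMod, Nat.reduceDiv, Nat.reduceMul, Nat.reduceAdd, h2, one_pow, fd_one, d6] at a1 a2 a3 b2 b3 d1 d2 d3
  have := (by decide +kernel : ∀ x ∈ L9, ∀ y ∈ L9, ∀ w ∈ L9, w.2 = y.2 → x.2 ≠ 56 → y.2 ≠ 56 →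
    2 ^ x.1 % 9 = 2 ^ ((54 * x.1 + 18 * y.2 - 12 * x.2 - 336) / 54) % 9 →
    2 ^ y.1 % 9 = 2 ^ ((18 * y.1 + 36 * w.1 + 6 * x.2 - 336) / 54) % 9 →
    (54 * x.1 + 18 * y.2 : ℤ) - 12 * x.2 - 336 < 0 ∨ (18 * y.1 + 36 * w.1 + 6 * x.2 : ℤ) - 336 < 0 ∨
    ((54 * x.1 + 18 * y.2 : ℤ) - 12 * x.2 - 336) % 54 ≠ 0 ∨ ((18 * y.1 + 36 * w.1 + 6 * x.2 : ℤ) - 336) % 54 ≠ 0 ∨
    ((54 * x.1 + 54 * y.1 + 108 * w.1 : ℤ) - 12 * x.2 - 36 * y.2 - 336) % 162 ≠ 0 ∨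
    (54 * x.1 + 54 * y.1 + 108 * w.1 : ℤ) - 12 * x.2 - 36 * y.2 - 336 < 0) _ d1 _ d2 _ d3 rfl d4 d5
    (b2.trans (congrArg (2 ^ · % 9) (by omega))) (b3.trans (congrArg (2 ^ · % 9) (by omega)))
  omega

theorem noG28 {F : Type*} [Field F] [Fintype F] (h : Fintype.card F = 8) {ρ : chevG2.group F →* End F2 V56}
    (D : Dat ρ) : False := by
  obtain ⟨e, h1, h2, h3, h4, h5⟩ := tor8 h
  exact no81 D h1 h2 h3 h4 h5

end CL.E72
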