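/-
`L₂(27)` fixes a vector.
-/
import Cfsg.Agent.KSG.E72.MatR

set_option autoImplicit false

namespace CL.E72
open Module Function Finset CL.E83 CL.AltE CL.SL2Wt Module.End
open scoped MatrixGroups

variable {F : Type*} [Field F]

/-- the Weyl element -/
def wy : SL(2, F) := mk 0 (-1) 1 0 (by simp)

theorem bruhat2 (g : SL(2, F)) (h : g 1 0 ≠ 0) :
    g = up (g 0 0 / g 1 0) * wy * dg (Units.mk0 _ h)⁻¹ * up (g 1 1 / g 1 0) := by
  have := g.det_coe
  rw [Matrix.det_fin_two] at this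
  refine ext4 ?_
  simp [up, dg, wy, mul_ap]
  field_simp
  simp only [true_and, and_true]
  linear_combination -this

theorem sl2_ind {P : SL(2, F) → Prop} (h1 : ∀ t, P (up t)) (h2 : ∀ a, P (dg a)) (h3 : P wy)
    (h : ∀ x y, P x → P y → P (x * y)) (g : SL(2, F)) : P g := by
  by_cases c : g 1 0 = 0
  · have := g.det_coe
    rw [Matrix.det_fin_two, c, mul_zero, sub_zero] at this
    rw [show g = dg (Units.mk0 _ (right_ne_zero_of_mul_eq_one this)) * up (g 1 1 * g 0 1) from ext4 (by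
      simp [up, dg, mul_ap, c, right_ne_zero_of_mul_eq_one this, eq_inv_of_mul_eq_one_left this])]
    exact h _ _ (h2 _) (h1 _)
  · rw [bruhat2 g c]
    exact h _ _ (h _ _ (h _ _ (h1 _) h3) (h2 _)) (h1 _)

theorem noL227 [Fintype F] (h : Fintype.card F = 27) {ρ : SL(2, F) →* End F2 V56} (D : Dat ρ) (N : NoFix ρ)
    (hz : ρ (dg (-1)) = 1) : False := by
  classical
  have : CharP F 3 := charP_of_card_eq_prime_pow (f := 3) h
  have h3 : ∀ t : F, up t ^ 3 = 1 := fun t => by rw [up_pow, CharP.cast_eq_zero, zero_mul, up_zero]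
  have h13 : ∀ a : Fˣ, a ^ 13 = 1 ∨ a ^ 13 = -1 := fun a => by
    have := FiniteField.pow_card_sub_one_eq_one a.1 a.ne_zero
    rw [h, show 27 - 1 = 13 * 2 from rfl, pow_mul, sq_eq_one_iff] at this
    exact this.imp (fun e => Units.ext e) fun e => Units.ext e
  have k1 : ∀ t : F, t ≠ 0 → T ⊤ (ρ (up t)) = T ⊤ (ρ (up 1)) := fun t ht => by
    rw [T_conj ρ (isConj_iff.2 ⟨_, dg_up (Units.mk0 t ht ^ 7) t⟩), show _ * t = (((Units.mk0 t ht ^ 13)⁻¹ : Fˣ) : F) by
      simp; field_simp]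
    rcases h13 (Units.mk0 t ht) with e | e <;> rw [e]
    · simp
    · rw [← T_inv, inv_eq_of_mul_eq_one_right (b := up 1) (by rw [← up_add]; simpa using up_zero)]
  have k2 := sum3 (Q := Multiplicative F) (fun x => by
    rw [← ofAdd_toAdd x, ← ofAdd_nsmul, nsmul_eq_mul, CharP.cast_eq_zero, zero_mul]; rfl) mul_comm
    (ρ.comp (MonoidHom.mk' (fun t => up t.toAdd) fun _ _ => up_add _ _)) ⊤ fun _ _ _ => trivial
  rw [top_inf_eq, ← add_sum_erase _ _ (mem_univ 1), sum_congr rfl fun x hx => k1 x.toAdd (ne_of_mem_erase hx), sum_const,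
    card_erase_of_mem (mem_univ _), card_univ, Fintype.card_multiplicative, h, map_one, ← map_one ρ, T_one] at k2
  obtain ⟨W, hW, d4⟩ : ∃ W : Submodule F2 V56, (∀ v, v ∈ W ↔ ∀ t, ρ (up t) v = v) ∧ dm W = 4 := ⟨_, fun v =>
    (Submodule.mem_iInf _).trans (forall_congr' fun _ => mem_fx), by
      have := D.t3 (h3 1) fun e => one_ne_zero (congrArg (fun g : SL(2, F) => g 0 1) e :)
      simp only [nsmul_eq_mul] at k2
      change _ = _ * (dm (⨅ i, (ρ (up i)).eigenspace 1) : ℤ) at k2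
      omega⟩
  clear k2
  have ap : ∀ x y v, ρ x (ρ y v) = ρ (x * y) v := fun x y v => by rw [map_mul, mul_apply]
  have k3 : ∀ a t, dg a * up t = up ((a : F)⁻¹ * (a : F)⁻¹ * t) * dg a := fun a t => mul_inv_eq_iff_eq_mul.1 (dg_up a t)
  let P : End F2 V56 := ∑ t, ρ (up t)
  have p0 : ∀ v, P v = ∑ t, ρ (up t) v := fun v => LinearMap.sum_apply _ _ _
  have p1 : ∀ v, P v ∈ W := fun v => (hW _).2 fun s => by
    simp only [p0, map_sum, ap, ← up_add]
    exact Fintype.sum_equiv (Equiv.addLeft s) _ _ fun _ => rfl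
  have p2 : ∀ v ∈ W, P v = v := fun v hv => by
    rw [p0, sum_congr rfl fun t _ => (hW v).1 hv t, sum_const, card_univ, h, ← Nat.cast_smul_eq_nsmul F2]
    exact one_smul _ _
  have p3 : ∀ s v, P (ρ (up s) v) = P v := fun s v => by
    simp only [p0, ap, ← up_add]
    exact Fintype.sum_equiv (Equiv.addRight s) _ _ fun _ => rfl
  have p4 : ∀ a v, P (ρ (dg a) v) = ρ (dg a) (P v) := fun a v => by
    simp only [p0, map_sum, ap, k3]
    exact (Fintype.sum_equiv (Equiv.mulLeft₀ _ (by simp)) _ _ fun _ => rfl).symm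
  have k4 : ∀ a, ∀ v ∈ W, ρ (dg a) v = v := fun a v hv => by
    have h1 := cong (W := W) (g := ρ (dg a)) (fun v hv => by rw [← p2 v hv, ← p4]; exact p1 _) (r := 13) (N := 1) 0
      (by norm_num) (by
        rw [pow_one, ← map_pow, dg_pow]
        rcases h13 a with e | e <;> rw [e]
        exacts [by rw [← pow_zero (1 : Fˣ), ← dg_pow, pow_zero, map_one], hz])
    rw [pow_zero, pow_one, d4] at h1
    have h2 := dm_mono (inf_le_left (a := W) (b := (ρ (dg a)).eigenspace 1))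
    refine mem_fx.1 ((Submodule.eq_of_le_of_finrank_eq inf_le_left (show dm _ = dm W from ?_)).ge hv).2
    rw [d4] at h2 ⊢
    exact (by decide : ∀ d ≤ 4, 2 ^ 4 ≡ 2 ^ d [MOD 13 ^ (0 + 1)] → d = 4) _ h2 h1
  have w2 : wy * wy = dg (-1 : Fˣ) := ext4 (by simp [wy, dg, mul_ap])
  have w3 : ∀ a : Fˣ, wy * dg a = dg a⁻¹ * wy := fun a => ext4 (by simp [wy, dg, mul_ap])
  have k5 : ∀ v ∈ W, ρ wy v = v → v = 0 := fun v hv h => N.1 v (sl2_ind ((hW v).1 hv) (fun a => k4 a v hv) h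
    fun x y hx hy => by rw [← ap, hy, hx])
  have k6 : ∀ x ∈ W, P (ρ wy x) = x := fun x hx => by
    have e : ∀ t, ρ wy (ρ (up t) (ρ wy x)) = ρ (up (-t⁻¹)) (ρ wy x) + if t = 0 then x - ρ wy x else 0 := fun t => by
      split_ifs with c
      · simp [c, up_zero, ap, w2, hz]
      · have b : (wy * (up t * wy) : SL(2, F)) 1 0 = t := by simp [wy, up, mul_ap]
        rw [ap, ap, mul_assoc, bruhat2 _ (b.trans_ne c), ← ap, ← ap, (hW x).1 hx, k4 _ _ hx, ← ap, add_zero, b]
        congr 3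
        simp [wy, up, mul_ap, neg_div]
    have := k5 (x + P (ρ wy x)) (add_mem hx (p1 _)) (by
      simp only [p0, map_add, map_sum, e, sum_add_distrib, sum_ite_eq', mem_univ, if_true]
      rw [Fintype.sum_equiv ((Equiv.inv F).trans (Equiv.neg F)) (fun t => ρ (up (-t⁻¹)) (ρ wy x))
        (fun t => ρ (up t) (ρ wy x)) fun _ => rfl]; abel)
    rw [← add_right_inj x, this, add_self2]
  have := Fact.mk (by norm_num : Nat.Prime 13)
  obtain ⟨a, ha⟩ := exists_prime_orderOf_dvd_card' (G := Fˣ) 13 (by rw [Nat.card_units, Nat.card_eq_fintype_card, h]; norm_num)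
  have a1 : dg a ^ 13 = 1 := by rw [dg_pow, ← ha, pow_orderOf_eq_one, ← pow_zero (1 : Fˣ), ← dg_pow, pow_zero]
  have a2 := D.f13 a1 fun e => by
    rw [show a = 1 from Units.ext (congrArg (fun g : SL(2, F) => g 1 1) e :)] at ha
    simp at ha
  have a3 := dm_sup W (W.map (ρ wy))
  rw [show W ⊓ W.map (ρ wy) = ⊥ from eq_bot_iff.2 fun v ⟨h1, x, hx, e⟩ => by
    rw [← e] at h1 ⊢
    have := (p2 _ h1).symm.trans (k6 x hx)
    rw [this, k5 x hx this]; exact zero_mem _, show dm (W.map (ρ wy)) = dm W from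
      (Submodule.equivMapOfInjective _ (rep_injective ρ _) W).finrank_eq.symm, d4, show dm ⊥ = 0 from finrank_bot _ _] at a3
  have a4 : W ⊔ W.map (ρ wy) = (ρ (dg a)).eigenspace 1 := Submodule.eq_of_le_of_finrank_eq (sup_le
    (fun v hv => mem_fx.2 (k4 a v hv)) (by
      rintro _ ⟨x, hx, rfl⟩
      exact mem_fx.2 (by rw [ap, ← inv_inv a, ← w3, ← ap, k4 _ _ hx]))) (a3.trans a2.symm)
  have p5 : ∀ a v, P (ρ (dg a) v) = P v := fun a v => by rw [p4, k4 _ _ (p1 _)]
  have k7 : ∀ v, (P * ρ wy - P) v = 0 := fun v => by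
    have b1 : ∀ i, (P * ρ wy - P) (ρ (dg a ^ i) v) = (P * ρ wy - P) v := fun i => by
      simp only [dg_pow, LinearMap.sub_apply, mul_apply, p5]
      rw [ap, w3, ← ap, p5]
    have b3 : W ⊔ W.map (ρ wy) ≤ LinearMap.ker (P * ρ wy - P) := sup_le (fun x hx => by simp [k6 x hx, p2 x hx]) (by
      rintro _ ⟨x, hx, rfl⟩
      simp [k6 x hx, p2 x hx, ap, w2, hz])
    have b2 := b3 (a4.ge (mem_fx.2 (show ρ (dg a) (∑ i ∈ range 13, ρ (dg a ^ i) v) = _ by
      simp only [map_sum, ap, ← pow_succ']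
      exact add_right_cancel ((sum_range_succ' (fun i => ρ (dg a ^ i) v) 13).symm.trans
        ((sum_range_succ _ 13).trans (by rw [a1, pow_zero]))))))
    rw [LinearMap.mem_ker, map_sum, sum_congr rfl fun i _ => b1 i, sum_const, card_range,
      ← Nat.cast_smul_eq_nsmul F2] at b2
    exact (one_smul F2 _).symm.trans b2
  obtain ⟨x, hx, x0⟩ := (Submodule.ne_bot_iff W).1 (by rintro rfl; exact absurd (d4.symm.trans (finrank_bot _ _)) (by norm_num))
  refine x0 ((forall_dual_apply_eq_zero_iff F2 x).1 fun φ => p2 x hx ▸ LinearMap.congr_fun (N.2 (φ ∘ₗ P) (sl2_ind (P := fun g => ∀ v, φ (P (ρ g v)) = φ (P v))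
    (fun t v => by rw [p3]) (fun a v => by rw [p5]) (fun v => congrArg φ (sub_eq_zero.1 (k7 v)))
    fun x y hx hy v => by rw [← ap, hx, hy])) x)

end CL.E72
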