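/-
`E₇(2)` has no subgroup `PSL₃(16)`.
-/
import Cfsg.Agent.KSG.E72.Q2

set_option autoImplicit false
set_option maxRecDepth 20000
set_option exponentiation.threshold 2000

namespace CL.E72
open Module Function Finset CL.E83 CL.AltE CL.K CL.PM CL.CG Matrix Cfsg

/-- generators -/
def lM : List ℕ := [0x11000000000101100000000010100000000110000000000000001100000000010110000000001010000000011000000000000000110000000001011000000000101000000001100,
  0x111000000000111100000000011100000000110100000000000001100000000010110000000001010000000011000000000000001000000000000100000000000010000000000001,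
  0x1000000000000100000000000010000000000001100000000000010000000000001000000000000100000000000010000000000001000000000000100000000000010000,
  0x110100000000111000000000111100000000101000000000000010010000000011000000000001100000000000100000000000001001000000001100000000000110000000000010,
  0x100100000000110000000000011000000000001000000000000011010000000011100000000011110000000010100000000000001001000000001100000000000110000000000010,
  0x11011101000101111110100010101110010110011010001111001101000111110110100011101010010110111000001100010001000010001000100001000100010000100010001,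
  0x11010000110101101001011010100100101110000011100011011101110101111111111010101110111110011011101111011100110111111111011011101110101110111011100]

/-- the matrices -/
def kM : List (Matrix (Fin 3) (Fin 3) ℕ) := [!![5, 0, 0; 0, 5, 0; 0, 0, 5], !![15, 0, 0; 0, 5, 0; 0, 0, 10], !![0, 15, 0; 0, 0, 15; 15, 0, 0], !![3, 0, 0; 0, 3, 0; 0, 0, 9], !![3, 0, 0; 0, 9, 0; 0, 0, 3], !![15, 15, 15; 15, 5, 10; 15, 10, 5], !![5, 10, 10; 10, 10, 5; 5, 15, 5]]

theorem chkM_1 : (∀ K ∈ kM, det3 c16 K = 1) ∧ kM.map (fun K => code 4 (unblk 3 4 (ZMod 2) (pm c16 K))) = lM := by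
  decide +kernel

theorem chkM_2 : (∀ p ∈ [(List.replicate 3 1, []), (List.replicate 5 3, []), (List.replicate 5 4, []), ([3, 4], [4, 3]),
    ([3, 1], [1, 3]), ([4, 1], [1, 4]), ([2, 1], [1, 2, 0]),
    ([4] ++ List.replicate 0 3 ++ [2], [2] ++ (List.replicate 1 ([3])).flatten),
    ([4] ++ List.replicate 1 3 ++ [2], [2] ++ (List.replicate 4 ([4] ++ List.replicate 0 3)).flatten),
    ([3] ++ [2], [2] ++ (List.replicate 4 ([4] ++ List.replicate 1 3)).flatten),
    ([4] ++ List.replicate 4 3 ++ [2], [2] ++ (List.replicate 1 ([4] ++ List.replicate 2 3)).flatten),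
    ([4] ++ List.replicate 2 3 ++ [2], [2] ++ (List.replicate 3 ([4] ++ List.replicate 3 3)).flatten),
    ([4] ++ List.replicate 3 3 ++ [2], [2] ++ (List.replicate 2 ([4] ++ List.replicate 4 3)).flatten)], ev mul2 one2 lM p.1 = ev mul2 one2 lM p.2) ∧
    ∀ p ∈ [([1], 5), ([3], 2), ([4] ++ List.replicate 2 3, 2)],
    mul2 (lM.getD p.2 one2) (ev mul2 one2 lM p.1) ≠ mul2 (ev mul2 one2 lM p.1) (lM.getD p.2 one2) := by decide +kernel

theorem chkM_3 : con3 mul2 one2 lM ([7, 0, 1].map (lM.getD · one2)) ([0, 1, 2].map (lM.getD · one2))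
    [(0, []), (2, [5]), (2, [5]), (2, []), (2, [6, 1, 5]), (2, [6, 1]), (2, []), (2, [2, 6]), (2, [5, 6]), (1, []), (2, [2, 5]), (2, [2, 2, 5]), (2, [2, 2]), (2, [5, 6]), (2, [6]), (2, [2]), (2, [6]), (2, [5, 6, 2]), (1, []), (2, [5, 6, 6]), (2, [2, 5]), (2, [2]), (2, [6, 5]), (2, [2, 6]), (2, [6, 6]), (2, [6, 1]), (2, [6, 5])] [1, 2, 24] = true := by
  decide +kernel

theorem noL316 {F : Type*} [Field F] [Fintype F] (h : Fintype.card F = 16)
    {ρ : ProjectiveSpecialLinearGroup (Fin 3) F →* End F2 V56} (D : Dat ρ) : False := by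
  obtain ⟨e, ω, he⟩ := exists_e16 h
  obtain ⟨C, hm, ho, h1, hI, h2, h3, -⟩ := exists_cod (fSL_injective e) (QuotientGroup.mk' (Subgroup.center _))
    fun g => (QuotientGroup.eq_one_iff g).1
  have k0 := fun K hK => mem_SL3 e he ⟨chkM_1.1 K hK, rfl⟩
  have hL : ∀ a ∈ lM, C.In a := chkM_1.2 ▸ List.forall_mem_map.2 fun K hK => hI ▸ ⟨_, trivial, (k0 K hK).choose_spec⟩
  have k1 := rel_spec hm ho h1 hL chkM_2.1
  have k2 := h3 _ hL _ chkM_2.2
  have k3 := con3_spec hm ho h1 hL ρ (List.forall_mem_map.2 fun i _ => getD_ind ho hL i)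
    (List.forall_mem_map.2 fun i _ => getD_ind ho hL i) chkM_3
  have k4 : C.el (lM.getD 0 one2) = 1 := (congrArg C.el ((congrArg (List.getD · 0 one2) chkM_1.2).symm.trans
    (k0 _ List.mem_cons_self).choose_spec.symm)).trans ((h2 _).trans ((QuotientGroup.eq_one_iff _).2 (pm_center rfl)))
  simp only [List.forall_mem_cons, List.map_cons, List.map_nil, List.prod_cons, List.prod_nil, mul_one, List.map_replicate,
    List.prod_replicate, List.map_append, List.prod_append, sum_range_succ, range_zero, sum_empty, List.length_cons,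
    List.length_nil, List.getD_cons_succ, List.getD_cons_zero, show lM.getD 7 one2 = one2 from rfl, h1, T_one, k4,
    List.map_flatten, List.prod_flatten] at k1 k2 k3
  generalize C.el (lM.getD 1 one2) = x, C.el (lM.getD 2 one2) = c, C.el (lM.getD 3 one2) = z,
    C.el (lM.getD 4 one2) = g at k1 k2 k3
  obtain ⟨x3, z5, g5, c1, c2, c3, c4, r0, r1, r2, r3, r4, r5, -⟩ := k1
  obtain ⟨nx, nz, n2, -⟩ := k2
  have k7 := five6 ρ c2 c3 c1 z5 g5
  have k9 := D.d35 c2 x3 z5 nz
  have k10 := D.d35 (Commute.mul_left c3 (Commute.pow_left c2 2)) x3 (by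
    rw [(Commute.pow_right c1.symm 2).mul_pow, g5, ← pow_mul, mul_comm 2, pow_mul, z5, one_pow, one_mul]) n2
  have k11 := (by decide : ∀ p ∈ L15, ∀ q ∈ L15, p.2.2 = 16 → q.2 = p.2 → p.2.1 ≠ 56 → p.2.1 = 2 ∨
    (3 * p.1 + 3 * q.1) % 5 ≠ p.2.1 % 5) _ k9 _ k10 rfl rfl (mt (D.one x 3 (by norm_num) x3) nx)
  have := dm_le_conj ρ r0 c4
  have := dm_le_conj ρ r1 c4
  have := dm_le_conj ρ r2 c4
  have := dm_le_conj ρ r3 c4
  have := dm_le_conj ρ r4 c4
  have := dm_le_conj ρ r5 c4
  rw [T_eq, x3, fd_one] at k3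
  simp only [List.range_succ, List.range_zero, List.map_append, List.sum_append, List.map_cons, List.map_nil, List.sum_cons,
    List.sum_nil, fd] at k3 k7 k11
  omega

end CL.E72
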