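/-
`PSL₃(4)` is `(2,5,5)`-generated.
-/
import Cfsg.Agent.KSG.E72.Q2
import Cfsg.Agent.S0242

set_option autoImplicit false
set_option maxRecDepth 20000
set_option exponentiation.threshold 2000

namespace CL.E72
open Module Function Finset CL.E83 CL.AltE CL.K CL.PM CL.CG Matrix Cfsg

/-- generators -/
def lL : List ℕ := [0x100000000000010000000000001000000000000100000000111010000000111101000000011100100000110100010000000000001000000000000100000000000010000000000001,
  0x1000000000000100000000000010000000000001100000001000010000000100001000000010000100000001111010000110111101001011011100100101110100011100,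
  0x11000000000101100000000010100000000110000000000000001100000000010110000000001010000000011000000000000000110000000001011000000000101000000001100]

/-- stabiliser generators -/
def geLW0 : List (ℕ × List ℕ) := [(0x10000110000001001011000000100101000000011100100001101110010010111111001001010111000111001101000000001000000000000100000000000010000000000001, [0, 1, 0, 1, 1, 1, 0, 1, 1, 1, 1, 0, 1, 0, 1, 1]),
  (0x100000001110010000001111001000000111000100001101111010000110111101001011011100100101110100011100000000001000000000000100000000000010000000000001, [1, 1, 1, 1, 0, 1, 0])]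

theorem geL0 : (isCode 2 12 4 15 0x1 && levB mul2 one2 (lL.take 2) geLW0 0x1 48 0xffffffffffff (fld 1 1 0x655b3f569fdb5b5a)
    (fld 6 63 0x3de78db4d33cf1c2eb2baa8a2696386079c71b6da6996185d759551349140e38d30c2892482071861441030c2041000)
    (fld 6 63 0x38716e6fec833306b6aaea1f6ec75628d8d49540f2a97d367c9ddd251c578e50919192c2e6b7081b1035f70b28fe880) 63) = true := by
  decide +kernel

/-- stabiliser generators -/
def geLW1 : List (ℕ × List ℕ) := [(0x100000000110010000001011001000000101000100001100000010000000000001000000000000100000000000010000000000001000000000000100000000000010000000000001, [0, 0, 0, 0, 1, 1, 0]),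
  (0x100001101110010010111111001001010111000111001101000010000000000001000000000000100000000000010000000000001000000000000100000000000010000000000001, [1, 0, 0, 0, 1, 0, 0, 1]),
  (0x100011100110010011111011001001110101000111011100000010000000000001000000000000100000000000010000000000001000000000000100000000000010000000000001, [0, 1, 1, 0, 0, 0, 1, 1, 1, 0]),
  (0x100011101000010011110100001001110010000111010001000010000000000001000000000000100000000000010000000000001000000000000100000000000010000000000001, [0, 0, 1, 1, 0, 0, 1, 0])]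

theorem geL1 : (isCode 2 12 4 15 0x10000 && levB mul2 one2 (geLW0.map Prod.fst) geLW1 0x10000 48 0xffffffffffff (fld 1 1 0xadd954975355554)
    (fld 6 63 0xcf2beca689a59218607df79c71b6da6986175965544d245040d34c30b2892482071c61851441030c2081040000)
    (fld 6 63 0x4ead31e4879fe82cce8f75a9809867499bc398731c751b6e9782db06834ab18405d4f5ebc14ca2136695906ec0) 60) = true := by
  decide +kernel

/-- stabiliser generators -/
def geLW2 : List (ℕ × List ℕ) := []

theorem geL2 : (isCode 2 12 4 15 0x100000000 && levB mul2 one2 (geLW1.map Prod.fst) geLW2 0x100000000 48 0xffffffffffff (fld 2 3 0xffbee790)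
    (fld 4 15 0xb865532211100000)
    (fld 4 15 0x73462f5eb98ca1d0) 16) = true := by
  decide +kernel

theorem chkL_1 : ∀ p ∈ [(!![3, 0, 0; 0, 3, 2; 0, 0, 3], 0), (!![1, 3, 2; 3, 0, 3; 3, 0, 0], 1), (!![1, 0, 0; 0, 1, 0; 0, 0, 1], 2)],
    det3 c4 p.1 = 1 ∧ code 4 (unblk 3 4 (ZMod 2) (pm c4 p.1)) = lL.getD p.2 0 := by decide +kernel

theorem chkL_2 : (∀ p ∈ [([0, 0], []), (List.replicate 5 1, []), ([0, 1, 0, 1, 0, 1, 0, 1, 0, 1], [2])],
    ev mul2 one2 lL p.1 = ev mul2 one2 lL p.2) ∧ ∀ p ∈ [([1], 0), ([0, 1], 0)],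
    mul2 (lL.getD p.2 one2) (ev mul2 one2 lL p.1) ≠ mul2 (ev mul2 one2 lL p.1) (lL.getD p.2 one2) := by decide +kernel

theorem gen_L34 {F : Type*} [Field F] [Fintype F] (h : Fintype.card F = 4) :
    ∃ a b : ProjectiveSpecialLinearGroup (Fin 3) F, a ^ 2 = 1 ∧ b ^ 5 = 1 ∧ (a * b) ^ 5 = 1 ∧ b ≠ 1 ∧ a * b ≠ 1 ∧
      Subgroup.closure {a, b} = ⊤ := by
  obtain ⟨e, ω, he⟩ := exists_e4 h
  obtain ⟨C, hm, ho, h1, hI, h2, h3, h4⟩ := exists_cod (fSL_injective e) (QuotientGroup.mk' (Subgroup.center _))
    fun g => (QuotientGroup.eq_one_iff g).1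
  have k0 := fun p hp => mem_SL3 e he (chkL_1 p hp)
  simp only [List.forall_mem_cons] at k0
  obtain ⟨⟨_, a0⟩, ⟨_, a1⟩, ⟨_, a2⟩, -⟩ := k0
  have hL : ∀ a ∈ lL, Mem (fun g => code 4 (fSL e g)) ⊤ a := List.forall_mem_cons.2 ⟨⟨_, trivial, a0⟩,
    List.forall_mem_cons.2 ⟨⟨_, trivial, a1⟩, List.forall_mem_singleton.2 ⟨_, trivial, a2⟩⟩⟩
  have k1 := rel_spec hm ho h1 (hI ▸ hL) chkL_2.1
  have k2 := h3 _ (hI ▸ hL) _ chkL_2.2
  have k3 : C.el (lL.getD 2 one2) = 1 := (congrArg C.el a2).symm.trans ((h2 _).trans
    ((QuotientGroup.eq_one_iff _).2 (pm_center rfl)))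
  have I := isCode2 (fSL_injective e)
  have hc := Cfsg.Agent.S0242.result h 3 (by norm_num)
  norm_num [Fin.prod_univ_succ, -Nat.card_eq_fintype_card] at hc
  have k4 := h4 (lL.getD 0 one2) (lL.getD 1 one2) (hI ▸ ⟨_, trivial, a0⟩) (hI ▸ ⟨_, trivial, a1⟩)
    (QuotientGroup.mk'_surjective _) inferInstance (le_card_rep ok2 I (fun c hc => hL c (List.mem_of_mem_take hc)) geL0
      (b := 960) (fun h => le_card_rep ok2 I h geL1 (b := 16) (fun h => le_card_rep ok2 I h geL2 (b := 1)
      (fun _ => one_le_card _) le_rfl) le_rfl) (by omega))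
  simp only [List.forall_mem_cons, List.map_cons, List.map_nil, List.prod_cons, List.prod_nil, mul_one, List.map_replicate,
    List.prod_replicate, k3] at k1 k2
  exact ⟨_, _, (sq _).trans k1.1, k1.2.1, by simpa only [pow_succ', pow_zero, mul_one, mul_assoc] using k1.2.2.1, k2.1,
    k2.2.1, k4⟩

end CL.E72
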