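/-
`E₇(2)` has no subgroup `U₄(3)`.
-/
import Cfsg.Agent.KSG.E72.MatR
import Cfsg.Agent.KSG.E83.MatC

set_option autoImplicit false
set_option maxRecDepth 20000

namespace CL.E72
open Module Function Finset CL.E83 CL.AltE Matrix

/-- generators -/
def lU3 : List ℕ := [2251804377104384, 1128099466969152, 4612811918334234625, 1073881092, 18014407166529536, 4535527407616, 9223372105574320128, 36033195082252304, 4948339326976, 4612811918334231056, 10762078165780703364, 72063376289712260, 10832680294135662101, 7612649419796915265, 2577363704613136, 7683810018605802657, 10399552629231757992, 6962565025266402305, 10689751389062702177, 360363038769971714, 17600847282176, 35201577123840, 9223407221227126785, 1074266400, 2305843013508939776, 290271606603904, 4612248968380811280, 72066390139338784, 9223407221226930184, 7253777934250961152, 144124573754886464, 7685012789836977481, 10834078095537345665, 1712086708193316, 7396194956531631265, 720728228243718154]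

/-- the representatives -/
def rU3 : List ℕ := [1074791425, 577750489192110228, 6641094231305, 578308070435816609, 577174495422752405, 7253374465022793285]

theorem chkU3_0 : (∀ a ∈ [6641094231305, 721005412548695337, 10398818181233771785, 433566615932114329], okC a = true) ∧ con3 mulC 1074791425 lU3 rU3 [6641094231305, 721005412548695337, 10398818181233771785, 433566615932114329]
    [(0, []), (3, [10, 11]), (3, [10, 11]), (4, [0, 14, 22]), (5, [34]), (5, [0, 30, 5, 11]), (4, [24, 18, 7]), (5, [0, 16, 22, 9]), (5, [13]), (3, [0, 4, 10]), (3, [13]), (3, [11]), (4, [0, 26, 10]), (5, [13]), (5, [0, 27, 28, 34]), (3, [0, 16, 20]), (5, [0, 27, 28, 18]), (5, [32]), (3, [0, 16, 25]), (3, [30]), (3, [15]), (3, [8, 10, 5]), (5, [10, 12]), (5, [0, 27, 28, 17]), (4, [2, 35, 8]), (5, [0, 30, 5, 11]), (5, []), (2, []), (3, [16]), (3, [10]), (3, [0, 11, 34, 21]), (5, [32]), (5, [8, 11, 5]), (2, [0, 9]), (5, [0, 30, 5, 19]), (5, [17]), (3, [0, 4, 11]), (3,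 [34]), (3, [30]), (3, [3, 14, 27]), (5, [14]), (5, [0, 27, 28, 18]), (4, [3, 16, 6]), (5, [0, 27, 28, 34]), (5, [34]), (3, [9, 3]), (3, [11]), (3, [34]), (2, [0, 25, 14]), (5, [13, 33]), (5, [0, 30, 5, 19]), (2, [0, 9, 18]), (5, [0, 15, 30, 7]), (5, [13, 33]), (2, []), (3, [10]), (3, [16]), (2, [0, 25]), (5, [33]), (5, [0, 15, 30, 7]), (3, [0, 12, 0, 16]), (5, [0, 27, 28, 17]), (5, [14]), (3, [0, 4]), (3, [15]), (3, []), (2, [0, 25, 18]), (5, [17]), (5, [0, 27, 28]), (2, [0, 9, 14]), (5, [0, 27, 28]), (5, [33]), (3, [9, 3, 11]), (3, []), (3, [13]), (4, [0, 26, 16]), (5, []), (5, [0, 16, 22, 9]), (3, [1, 12, 2]), (5, [8, 11, 5]), (5, [10, 12])] [1, 0, 8, 30, 6, 36] = true := by decide +kernel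

theorem chkU3_1 : (∀ a ∈ [6641094231305, 648661576019085896, 723009719166658596, 650091035624744265], okC a = true) ∧ con3 mulC 1074791425 lU3 rU3 [6641094231305, 648661576019085896, 723009719166658596, 650091035624744265]
    [(0, []), (4, [21, 8]), (4, [21, 8]), (1, [32]), (4, [11]), (1, [11, 27, 1]), (1, [32]), (1, [6, 23, 19]), (4, [11]), (1, [29]), (4, [16]), (1, [13, 4, 3]), (1, []), (1, [12, 21, 8]), (4, [29]), (4, [5, 6]), (3, [3, 8, 11]), (3, [9, 3]), (1, [29]), (1, [6, 23, 12]), (4, [16]), (4, [2, 33, 8]), (3, [0, 4, 10]), (3, [4, 3, 10]), (1, [11]), (4, [13]), (1, [27, 1, 13]), (2, []), (4, [3, 26]), (4, [3, 26, 10]), (1, [10]), (4, [30]), (1, [6, 23]), (1, [12]), (1, [27, 1]), (4, []), (1, [13]), (4, [12]), (1, [27, 1, 12]), (1, [11]), (1, [6, 23, 31]), (4, [13]), (4, [6, 8]), (3, [3, 8]), (3, [9, 3, 11]), (1, [34]), (1, [6, 23, 10]), (4, [10]), (4, [6, 8]), (3, [0, 4, 11]), (3, [4, 3]), (1, []), (4, [29]), (1, [9, 29, 0]), (2, []),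 (4, [10, 3, 8]), (4, [3, 26]), (1, [12]), (4, []), (1, [27, 1]), (1, [10]), (1, [6, 23]), (4, [30]), (1, [34]), (4, [10]), (1, [27, 1, 16]), (1, [14]), (1, [6, 23, 13]), (4, [15]), (4, [0, 16, 6]), (3, [0, 14, 23]), (3, [0, 16, 25]), (1, [13]), (1, [6, 23, 16]), (4, [12]), (4, [5, 6]), (3, [0, 4]), (3, [4, 3, 11]), (1, [14]), (4, [15]), (1, [10, 3, 26])] [1, 36, 2, 12, 30, 0] = true := by decide +kernel

theorem chkU3 : (∀ a ∈ lU3, okC a = true) ∧ (∀ a ∈ rU3, okC a = true) ∧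
    (∀ a ∈ rU3.tail.take 4, mulC a (mulC a a) = 1074791425 ∧ ∃ j : Fin 4, 0 ≠ j ∧ (dgt a j ^ 2 + dgt a (16 + j) ^ 2) % 3 ≠ 0) ∧
    mulC 7253374465022793285 (mulC 7253374465022793285 7253374465022793285) = 6641094231305 := by decide +kernel

theorem noU43 {F : Type*} [Field F] [Fintype F] (h : Fintype.card F = 9) {ρ : Cfsg.SU 4 F 3 →* End F2 V56}
    (D : Dat ρ) : False := by
  have : CharP F 3 := charP_of_card_eq_prime_pow (f := 2) h
  obtain ⟨ι, hι⟩ := FiniteField.isSquare_neg_one_iff.2 (by rw [h]; decide : Fintype.card F % 4 ≠ 3)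
  have hf : Injective (suMat F) := fun _ _ e => Subtype.ext (Subtype.ext e)
  obtain ⟨c1, c2, c3, c4⟩ := chkU3
  obtain ⟨ho, h1⟩ := codM_one hf (decC_mul hι.symm) (o := 1074791425) (by simp [decC_sc 1 0 (a := 1074791425) (by decide +kernel)])
  have hm := codM_mul hf (decC_mul hι.symm)
  have hk : ∀ a, okC a = true → (codM hf (decC_mul hι.symm)).In a := okC_spec hι.symm
  have ht := fun a (ha : a ∈ rU3.tail.take 4) => And.intro
    ((el_cube hm (hk a (c2 a (List.mem_of_mem_tail (List.mem_of_mem_take ha)))) (c3 a ha).1).trans h1)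
    (codM_ne _ _ (hk a (c2 a (List.mem_of_mem_tail (List.mem_of_mem_take ha)))) fun e => by
      obtain ⟨j, h1, h2⟩ := (c3 a ha).2
      have := congrFun₂ e 0 j
      rw [decC_apply, one_apply_ne h1, Fin.val_zero, mul_zero, zero_add] at this
      refine h2 (Nat.mod_eq_zero_of_dvd ((CharP.cast_eq_zero_iff F 3 _).1 ?_))
      push_cast
      linear_combination (dgt a j - ι * dgt a (16 + j) : F) * this - (dgt a (16 + j) : F) ^ 2 * hι)
  have k0 := con3_spec hm ho h1 (fun a ha => hk a (c1 a ha)) ρ (fun a ha => hk a (c2 a ha))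
    (fun a ha => hk a (chkU3_0.1 a ha)) chkU3_0.2
  have k1 := con3_spec hm ho h1 (fun a ha => hk a (c1 a ha)) ρ (fun a ha => hk a (c2 a ha))
    (fun a ha => hk a (chkU3_1.1 a ha)) chkU3_1.2
  have k2 := el_cube hm (hk _ (c2 _ (by simp [rU3]))) c4
  simp only [rU3, List.tail_cons, List.take, List.forall_mem_cons] at ht
  obtain ⟨t1, t2, t3, t4, -⟩ := ht
  have k3 := D.d9 _ (by rw [show 9 = 3 * 3 from rfl, pow_mul, k2, t2.1])
  have k4 := mt (D.one _ 3 (by norm_num) t2.1) t2.2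
  have k5 := T_eq ρ ((codM hf (decC_mul hι.symm)).el 7253374465022793285)
  have k6 := T_eq ρ ((codM hf (decC_mul hι.symm)).el 6641094231305)
  rw [k2] at k3 k5
  rw [t2.1, fd_one] at k6
  simp [sum_range_succ, rU3, h1, T_one, -map_one] at k0 k1
  have := (by decide +kernel : ∀ a ∈ L3, ∀ x ∈ L9, ∀ c ∈ L3, ∀ d ∈ L3, x.2 ≠ 56 →
    (108 * x.1 - 12 * x.2 + 30 * c + 6 * d - 336 < 0 ∨ (108 * x.1 - 12 * x.2 + 30 * c + 6 * d - 336) % 162 ≠ 0) ∨
    (36 * a + 6 * x.2 + 12 * c + 30 * d) % 162 ≠ 0 ∨ 36 * a + 6 * x.2 + 12 * c + 30 * d < 0)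
    _ (D.t3' t1.1 t1.2) _ k3 _ (D.t3' t3.1 t3.2) _ (D.t3' t4.1 t4.2) k4
  omega

end CL.E72
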